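import Mathlib.AlgebraicGeometry.IdealSheaf.Basic

/-!
Gluing an ideal sheaf from its values on small affine opens.
-/

set_option autoImplicit false
set_option linter.style.haveILetI false
set_option backward.isDefEq.respectTransparency false
universe u

open CategoryTheory AlgebraicGeometry TopologicalSpace Opposite

namespace Groth.Agent.Hilb85

variable {X : Scheme.{u}}

/-- Restriction of sections. -/
abbrev resHom {V W : X.Opens} (h : W ≤ V) : Γ(X, V) →+* Γ(X, W) := (X.presheaf.map (homOfLE h).op).hom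

theorem resHom_resHom {U V W : X.Opens} (h : V ≤ U) (h' : W ≤ V) (s : Γ(X, U)) :
    resHom h' (resHom h s) = resHom (h'.trans h) s := by
  show (X.presheaf.map _ ≫ X.presheaf.map _) s = _
  rw [← Functor.map_comp]
  rfl

variable {small : X.affineOpens → Prop} (hdown : ∀ {V W : X.affineOpens}, W.1 ≤ V.1 → small V → small W)
  {K : ∀ W : X.affineOpens, small W → Ideal Γ(X, W.1)}
  (compat : ∀ {V W : X.affineOpens} (h : W.1 ≤ V.1) (hV : small V),
    (K V hV).map (resHom h) = K W (hdown h hV))

include compat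

theorem saturate {V : X.affineOpens} (hV : small V) (f : Γ(X, V.1)) {W : X.affineOpens} (hW : W = X.affineBasicOpen f)
    (y : Γ(X, V.1)) (hy : resHom (hW.trans_le (X.affineBasicOpen_le f)) y ∈
      K W (hdown (hW.trans_le (X.affineBasicOpen_le f)) hV)) : ∃ n : ℕ, f ^ n * y ∈ K V hV := by
  subst hW
  haveI := V.2.isLocalization_basicOpen f
  rw [← compat (X.affineBasicOpen_le f) hV] at hy
  obtain ⟨_, ⟨n, rfl⟩, hm⟩ :=
    (IsLocalization.algebraMap_mem_map_algebraMap_iff (Submonoid.powers f) Γ(X, X.basicOpen f) (K V hV) y).1 hy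
  exact ⟨n, hm⟩

theorem mem_of_local {V : X.affineOpens} (hV : small V) (y : Γ(X, V.1))
    (h : ∀ p ∈ V.1, ∃ (W : X.affineOpens) (hW : W.1 ≤ V.1), p ∈ W.1 ∧ resHom hW y ∈ K W (hdown hW hV)) :
    y ∈ K V hV := by
  choose W hW hpW hy using h
  choose g hg hpg using fun (p : X) (hp : p ∈ V.1) => V.2.exists_basicOpen_le ⟨p, hpW p hp⟩ hp
  have hspan : Ideal.span (Set.range fun p : V.1 => g p.1 p.2) = ⊤ := by
    rw [← V.2.self_le_iSup_basicOpen_iff]
    exact fun p hp => Opens.mem_iSup.2 ⟨⟨_, ⟨p, hp⟩, rfl⟩, hpg p hp⟩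
  refine Submodule.mem_of_span_eq_top_of_smul_pow_mem _ _ hspan y ?_
  rintro ⟨_, ⟨⟨p, hp⟩, rfl⟩⟩
  refine saturate hdown compat hV (g p hp) rfl y ?_
  have h1 := Ideal.mem_map_of_mem (resHom (hg p hp)) (hy p hp)
  rw [compat (W := X.affineBasicOpen (g p hp)) (hg p hp) (hdown (hW p hp) hV), resHom_resHom] at h1
  exact h1

omit compat in
/-- The sections whose restrictions to the small opens are in the given ideals. -/
def gluedIdeal (V : X.affineOpens) (K : ∀ W : X.affineOpens, small W → Ideal Γ(X, W.1)) : Ideal Γ(X, V.1) :=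
  ⨅ (W : X.affineOpens) (hW : small W) (h : W.1 ≤ V.1), (K W hW).comap (resHom h)

omit compat in
theorem mem_gluedIdeal {V : X.affineOpens} {s : Γ(X, V.1)} :
    s ∈ gluedIdeal V K ↔ ∀ (W : X.affineOpens) (hW : small W) (h : W.1 ≤ V.1), resHom h s ∈ K W hW := by
  simp [gluedIdeal, Ideal.mem_iInf]

/-- Ideals on a downward closed covering family of affine opens come from an ideal sheaf. -/
theorem exists_idealSheaf (hcov : ∀ p : X, ∃ W, small W ∧ p ∈ W.1) :
    ∃ I : X.IdealSheafData, ∀ (W : X.affineOpens) (hW : small W), I.ideal W = K W hW := by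
  classical
  refine ⟨{ ideal := fun V => gluedIdeal V K, map_ideal_basicOpen := fun V f => ?_ }, fun V hV => ?_⟩
  · show (gluedIdeal V K).map (resHom (X.affineBasicOpen_le f)) = gluedIdeal (X.affineBasicOpen f) K
    refine le_antisymm (Ideal.map_le_iff_le_comap.2 fun s hs => ?_) fun t ht => ?_
    · rw [Ideal.mem_comap, mem_gluedIdeal]
      intro W hW h
      rw [resHom_resHom]
      exact mem_gluedIdeal.1 hs W hW _
    · haveI := V.2.isLocalization_basicOpen f
      obtain ⟨⟨s, ⟨_, n, rfl⟩⟩, hs⟩ := IsLocalization.surj (S := Γ(X, X.basicOpen f)) (Submonoid.powers f) t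
      have hs' : resHom (X.affineBasicOpen_le f) s ∈ gluedIdeal (X.affineBasicOpen f) K := by
        have h1 : t * resHom (X.affineBasicOpen_le f) (f ^ n) = resHom (X.affineBasicOpen_le f) s := hs
        rw [← h1]
        exact Ideal.mul_mem_right _ _ ht
      have hpt : ∀ p ∈ V.1, ∃ g : Γ(X, V.1), p ∈ X.basicOpen g ∧ small (X.affineBasicOpen g) := fun p hp => by
        obtain ⟨W, hW, hpW⟩ := hcov p
        obtain ⟨g, hg, hpg⟩ := V.2.exists_basicOpen_le ⟨p, hpW⟩ hp
        exact ⟨g, hpg, hdown hg hW⟩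
      choose g hpg hsm using hpt
      obtain ⟨F, hF⟩ := V.2.isCompact.elim_finite_subcover (fun p : V.1 => (X.basicOpen (g p.1 p.2) : Set X))
        (fun p => (X.basicOpen _).2) fun p hp => Set.mem_iUnion.2 ⟨⟨p, hp⟩, hpg p hp⟩
      have hn : ∀ p : V.1, ∃ m : ℕ,
          resHom (X.affineBasicOpen_le (g p.1 p.2)) (f ^ m * s) ∈ K (X.affineBasicOpen (g p.1 p.2)) (hsm p.1 p.2) := by
        intro p
        let G := X.affineBasicOpen (g p.1 p.2)
        let fG := resHom (X.affineBasicOpen_le (g p.1 p.2)) f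
        have hle : (X.affineBasicOpen fG).1 ≤ (X.affineBasicOpen f).1 :=
          (X.basicOpen_res f (homOfLE (X.affineBasicOpen_le (g p.1 p.2))).op).trans_le inf_le_right
        have h1 := mem_gluedIdeal.1 hs' _ (hdown (X.affineBasicOpen_le fG) (hsm p.1 p.2)) hle
        obtain ⟨m, hm⟩ := saturate hdown compat (hsm p.1 p.2) fG rfl (resHom (X.affineBasicOpen_le _) s) (by
          rw [resHom_resHom]
          rw [resHom_resHom] at h1
          exact h1)
        exact ⟨m, by rwa [map_mul, map_pow]⟩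
      choose m hm using hn
      let M := F.sup m
      have hM : f ^ M * s ∈ gluedIdeal V K := by
        refine mem_gluedIdeal.2 fun W hW h => mem_of_local hdown compat hW _ fun p hp => ?_
        obtain ⟨a, ha, hpa⟩ := Set.mem_iUnion₂.1 (hF (h hp))
        obtain ⟨c, hc, hpc⟩ := W.2.exists_basicOpen_le (V := X.basicOpen (g a.1 a.2)) ⟨p, hpa⟩ hp
        refine ⟨X.affineBasicOpen c, X.affineBasicOpen_le c, hpc, ?_⟩
        have h2 : resHom (X.affineBasicOpen_le (g a.1 a.2)) (f ^ M * s) ∈
            K (X.affineBasicOpen (g a.1 a.2)) (hsm a.1 a.2) := by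
          rw [show M = M - m a + m a from (Nat.sub_add_cancel (Finset.le_sup (f := m) ha)).symm, pow_add, mul_assoc,
            map_mul]
          exact Ideal.mul_mem_left _ _ (hm a)
        have h3 := Ideal.mem_map_of_mem (resHom (show (X.affineBasicOpen c).1 ≤ (X.affineBasicOpen (g a.1 a.2)).1 from hc)) h2
        rw [compat (V := X.affineBasicOpen (g a.1 a.2)) (W := X.affineBasicOpen c) hc (hsm a.1 a.2), resHom_resHom] at h3
        rw [resHom_resHom]
        exact h3
      have h4 := Ideal.mem_map_of_mem (resHom (X.affineBasicOpen_le f)) hM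
      have hu : IsUnit (resHom (X.affineBasicOpen_le f) f) := RingedSpace.isUnit_res_basicOpen _ f
      obtain ⟨v, hv⟩ := (hu.pow (M + n)).exists_left_inv
      have h5 : t = v * resHom (X.affineBasicOpen_le f) (f ^ M * s) := by
        have h1 : t * resHom (X.affineBasicOpen_le f) (f ^ n) = resHom (X.affineBasicOpen_le f) s := hs
        rw [map_mul, ← h1, ← mul_assoc, mul_comm t, ← mul_assoc, mul_assoc v, ← map_mul, ← pow_add, map_pow]
        exact ((congrArg (· * t) hv).trans (one_mul t)).symm
      rw [h5]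
      exact Ideal.mul_mem_left _ _ h4
  · refine le_antisymm (fun s hs => ?_) fun s hs => mem_gluedIdeal.2 fun W hW h => ?_
    · have h1 := mem_gluedIdeal.1 hs V hV le_rfl
      have e : resHom (le_refl V.1) s = s := by
        show (X.presheaf.map _) s = s
        rw [show (homOfLE (le_refl V.1)).op = 𝟙 _ from rfl, X.presheaf.map_id]
        rfl
      rwa [e] at h1
    · rw [← compat h hV]
      exact Ideal.mem_map_of_mem _ hs

end Groth.Agent.Hilb85
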