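import Mathlib.AlgebraicGeometry.Morphisms.Flat
import Mathlib.AlgebraicGeometry.Morphisms.Affine
import Mathlib.Algebra.Category.Ring.Constructions

/-!
Sections over an affine open of the base change along a surjection of rings.
-/

set_option autoImplicit false
set_option linter.style.haveILetI false
set_option backward.isDefEq.respectTransparency false
universe u

open CategoryTheory CategoryTheory.Limits AlgebraicGeometry TopologicalSpace Opposite

namespace Groth.Agent.Hilb85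

variable {A' A : CommRingCat.{u}} {φ : A' ⟶ A} {Y Z : Scheme.{u}} {h : Z ⟶ Y} {q : Z ⟶ Spec A}
  {p : Y ⟶ Spec A'}

/-- The ring map from the base ring to the sections over an open. -/
noncomputable def baseMap (p : Y ⟶ Spec A') (U : Y.Opens) : A' →+* Γ(Y, U) :=
  (p.appLE ⊤ U le_top).hom.comp (Scheme.ΓSpecIso A').inv.hom

theorem appLE_baseMap (sq : h ≫ p = q ≫ Spec.map φ) (U : Y.Opens) (V : Z.Opens) (e : V ≤ h ⁻¹ᵁ U) (a : A') :
    h.appLE U V e (baseMap p U a) = baseMap q V (φ a) := by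
  show ((p.appLE ⊤ U le_top) ≫ h.appLE U V e) ((Scheme.ΓSpecIso A').inv a) = _
  rw [Scheme.Hom.appLE_comp_appLE]
  have h1 : (Scheme.ΓSpecIso A).inv (φ a) = (Spec.map φ).appTop ((Scheme.ΓSpecIso A').inv a) := by
    rw [← ConcreteCategory.comp_apply, ← ConcreteCategory.comp_apply]
    exact ConcreteCategory.congr_hom (Scheme.ΓSpecIso_inv_naturality φ) a
  show _ = q.appLE ⊤ V le_top ((Scheme.ΓSpecIso A).inv (φ a))
  rw [h1, ← ConcreteCategory.comp_apply]
  have h2 : (Spec.map φ).appTop = (Spec.map φ).appLE ⊤ ⊤ le_top := Scheme.Hom.app_eq_appLE _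
  simp only [h2, sq, ← ConcreteCategory.comp_apply, Category.assoc, Scheme.Hom.appLE_comp_appLE]

/-- Base change along a surjection: sections are the quotient by the extended kernel. -/
theorem surjective_appLE_and_ker (sq : IsPullback h q p (Spec.map φ)) (hφ : Function.Surjective φ)
    (U : Y.affineOpens) (V : Z.Opens) (hV : V = h ⁻¹ᵁ U.1) :
    Function.Surjective (h.appLE U.1 V hV.le) ∧
      RingHom.ker (h.appLE U.1 V hV.le).hom = (RingHom.ker φ.hom).map (baseMap p U.1) := by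
  have hV' : V = h ⁻¹ᵁ U.1 ⊓ q ⁻¹ᵁ ⊤ := by simp [hV]
  have hiso := isIso_pushoutSection_of_isAffineOpen sq (US := (⊤ : (Spec A').Opens)) (UT := ⊤) (UX := U.1)
    le_top le_top hV' (isAffineOpen_top _) (isAffineOpen_top _) U.2
  have P := (isIso_pushoutSection_iff ..).1 hiso
  set f := h.appLE U.1 V hV.le with hf
  have hq : ∀ s : Γ(Spec A, ⊤), ∃ r, f r = q.appLE ⊤ V le_top s := by
    intro s
    obtain ⟨a, ha⟩ := hφ ((Scheme.ΓSpecIso A).hom s)
    refine ⟨baseMap p U.1 a, ?_⟩
    rw [appLE_baseMap sq.w U.1 V hV.le a]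
    show q.appLE ⊤ V le_top ((Scheme.ΓSpecIso A).inv (φ a)) = _
    rw [ha, ← ConcreteCategory.comp_apply (Scheme.ΓSpecIso A).hom (Scheme.ΓSpecIso A).inv, Iso.hom_inv_id]
    rfl
  refine ⟨fun z => ?_, le_antisymm ?_ ?_⟩
  · have hz : z ∈ (⊤ : Subring Γ(Z, V)) := Subring.mem_top z
    rw [← CommRingCat.closure_range_union_range_eq_top_of_isPushout P] at hz
    refine (Subring.closure_le (t := f.hom.range)).2 ?_ hz
    rintro _ (⟨r, rfl⟩ | ⟨s, rfl⟩)
    · exact ⟨r, rfl⟩
    · obtain ⟨r, hr⟩ := hq s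
      exact ⟨r, hr⟩
  · let K := (RingHom.ker φ.hom).map (baseMap p U.1)
    let b : A →+* Γ(Y, U.1) ⧸ K :=
      RingHom.liftOfSurjective φ.hom hφ ⟨(Ideal.Quotient.mk K).comp (baseMap p U.1), fun a ha =>
        RingHom.mem_ker.2 (Ideal.Quotient.eq_zero_iff_mem.2 (Ideal.mem_map_of_mem _ ha))⟩
    have hb : ∀ a, b (φ a) = Ideal.Quotient.mk K (baseMap p U.1 a) := fun a =>
      RingHom.liftOfRightInverse_comp_apply _ _ _ _ a
    have hw : p.appLE ⊤ U.1 le_top ≫ CommRingCat.ofHom (Ideal.Quotient.mk K) =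
        (Spec.map φ).appLE ⊤ ⊤ le_top ≫ (Scheme.ΓSpecIso A).hom ≫ CommRingCat.ofHom b := by
      ext s
      obtain ⟨a, rfl⟩ : ∃ a, (Scheme.ΓSpecIso A').inv a = s :=
        ⟨(Scheme.ΓSpecIso A').hom s, by rw [← ConcreteCategory.comp_apply, Iso.hom_inv_id]; rfl⟩
      show Ideal.Quotient.mk K (baseMap p U.1 a) = _
      rw [← hb]
      show b (φ a) = b ((Scheme.ΓSpecIso A).hom ((Spec.map φ).appLE ⊤ ⊤ le_top ((Scheme.ΓSpecIso A').inv a)))
      congr 1
      have h1 : (Scheme.ΓSpecIso A).inv (φ a) = (Spec.map φ).appTop ((Scheme.ΓSpecIso A').inv a) := by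
        rw [← ConcreteCategory.comp_apply, ← ConcreteCategory.comp_apply]
        exact ConcreteCategory.congr_hom (Scheme.ΓSpecIso_inv_naturality φ) a
      have h2 : (Spec.map φ).appLE ⊤ ⊤ le_top = (Spec.map φ).appTop := by
        simp [Scheme.Hom.appTop, Scheme.Hom.appLE]
      rw [h2, ← h1, ← ConcreteCategory.comp_apply, Iso.inv_hom_id]
      rfl
    intro r hr
    have hd := ConcreteCategory.congr_hom (P.inl_desc (CommRingCat.ofHom (Ideal.Quotient.mk K))
      ((Scheme.ΓSpecIso A).hom ≫ CommRingCat.ofHom b) hw) r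
    rw [ConcreteCategory.comp_apply] at hd
    change P.desc _ _ hw (f r) = Ideal.Quotient.mk K r at hd
    rw [show f r = 0 from hr, map_zero] at hd
    exact Ideal.Quotient.eq_zero_iff_mem.1 hd.symm
  · rw [Ideal.map_le_iff_le_comap]
    intro a ha
    show f (baseMap p U.1 a) = 0
    rw [appLE_baseMap sq.w U.1 V hV.le a, show φ a = 0 from ha, map_zero]

theorem flat_baseMap (p : Y ⟶ Spec A') [Flat p] (U : Y.affineOpens) :
    (baseMap p U.1).Flat := by
  refine RingHom.Flat.comp ?_ (Flat.flat_appLE p (isAffineOpen_top _) U.2 le_top)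
  exact RingHom.Flat.of_bijective (ConcreteCategory.bijective_of_isIso (Scheme.ΓSpecIso A').inv)

end Groth.Agent.Hilb85
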