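import Groth.Agent.Hilb85.IdealHom
import Groth.Agent.Hilb85.Square
import Groth.Agent.Crv77.Sections
import Mathlib.CategoryTheory.Adjunction.Additive

/-!
`H⁰(Z, Hom(I/I², O_Z))` as compatible families `I(U) → Γ(X,U)/I(U)`, with the scalar action.
-/

set_option autoImplicit false
set_option linter.style.haveILetI false
set_option backward.isDefEq.respectTransparency false
universe u

open CategoryTheory CategoryTheory.Limits AlgebraicGeometry TopologicalSpace Opposite

noncomputable section

namespace Groth.Agent.Hilb85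

open QC70

variable {X Z : Scheme.{u}} (i : Z ⟶ X) [IsClosedImmersion i] {I : X.IdealSheafData} (hi : i.ker = I)

/-- Morphisms out of the conormal sheaf into `O_Z`. -/
def conormalHomEquiv :
    (Omega.conormal i ⟶ Coh.structureModule Z) ≃+ HomFam I (⊤ : X.Opens) := by
  subst hi
  haveI : (Scheme.Modules.pushforward i).Additive := inferInstance
  haveI : (Scheme.Modules.pullback i).Additive :=
    (Scheme.Modules.pullbackPushforwardAdjunction i).left_adjoint_additive
  exact ((Scheme.Modules.pullbackPushforwardAdjunction i).homAddEquiv (ClSub.idealMod i.ker)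
    (Coh.structureModule Z)).trans ((homOnTopEquiv _ _).trans (homFamEquiv i rfl ⊤))

theorem quotElt_conormalHomEquiv {i : Z ⟶ X} [IsClosedImmersion i] (f : Omega.conormal i ⟶ Coh.structureModule Z)
    (U : X.affineOpens) (s : Γ(ClSub.idealMod i.ker, U.1)) :
    quotElt i rfl U ((conormalHomEquiv i rfl f).map U le_top (idealElt i.ker U s)) =
      f.app (i ⁻¹ᵁ U.1) (OmegaSh.pullSect i (ClSub.idealMod i.ker) U.1 s) := by
  refine (HomFam.ofHomOn_map i rfl _ U le_top s).trans ?_
  rfl

variable [DCoh.HasSheafHom (Omega.conormal i)]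

/-- Sections of an isomorphism. -/
def appEquiv {X : Scheme.{u}} {M N : X.Modules} (e : M ≅ N) (W : X.Opens) : Γ(M, W) ≃+ Γ(N, W) where
  toFun := e.hom.app W
  invFun := e.inv.app W
  left_inv s := congr($(congrArg (fun f => Scheme.Modules.Hom.app f W) e.hom_inv_id) s)
  right_inv s := congr($(congrArg (fun f => Scheme.Modules.Hom.app f W) e.inv_hom_id) s)
  map_add' a b := map_add (e.hom.app W).hom a b

/-- `H⁰` of the normal sheaf. -/
def normalEquiv :
    Coh.HH Z ((DCoh.sheafHom (Omega.conormal i)).obj (Coh.structureModule Z)) 0 ≃+ HomFam I (⊤ : X.Opens) :=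
  (Crv77.sec _).trans
    (((appEquiv ((sheafHomIso (Omega.conormal i)).app (Coh.structureModule Z)) ⊤).trans
        (AddEquiv.mk' ⟨ofSec, HomOn.toSec, fun _ => rfl, fun _ => rfl⟩ fun _ _ => rfl)).trans
      ((homOnTopEquiv _ _).symm.trans (conormalHomEquiv i hi)))

theorem normalEquiv_smul (k : Type u) [CommRing k] [Z.Over (Spec (CommRingCat.of k))]
    (x : X ⟶ Spec (CommRingCat.of k)) (hx : Z ↘ Spec (CommRingCat.of k) = i ≫ x) (c : k)
    (h : Coh.HH Z ((DCoh.sheafHom (Omega.conormal i)).obj (Coh.structureModule Z)) 0)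
    (U : X.affineOpens) (y : I.ideal U) :
    (normalEquiv i hi (c • h)).map U le_top y =
      Ideal.Quotient.mk _ (baseMap (A' := CommRingCat.of k) x U.1 c) * (normalEquiv i hi h).map U le_top y := by
  subst hi
  obtain ⟨s, rfl⟩ := (idealElt_bijective U).surjective y
  refine (quotElt_bijective i rfl U).injective ?_
  let M := Omega.conormal i
  let N := Coh.structureModule Z
  let e := (sheafHomIso M).app N
  let σ : Γ((DCoh.sheafHom M).obj N, ⊤) := Crv77.sec _ h
  let r : Γ(Z, ⊤) := Coh.toGlobal (Z ↘ Spec (CommRingCat.of k)) c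
  let s' := OmegaSh.pullSect i (ClSub.idealMod i.ker) U.1 s
  have happ : ∀ g, quotElt i rfl U ((normalEquiv i rfl g).map U le_top (idealElt i.ker U s)) =
      (ofSec (e.hom.app ⊤ (Crv77.sec _ g))).app (i ⁻¹ᵁ U.1) le_top s' := fun g =>
    (quotElt_conormalHomEquiv _ U s).trans (HomOn.toHom_app _ _ _)
  rw [happ, Crv77.sec_smul k, Scheme.Modules.Hom.app_smul]
  show resO Z (le_top (a := i ⁻¹ᵁ U.1)) r • (ofSec (e.hom.app ⊤ σ)).app (i ⁻¹ᵁ U.1) le_top s' = _
  have hr : resO Z (le_top (a := i ⁻¹ᵁ U.1)) r = i.app U.1 (baseMap (A' := CommRingCat.of k) x U.1 c) := by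
    show (Z.presheaf.map _).hom ((Z ↘ Spec (CommRingCat.of k)).appTop ((Scheme.ΓSpecIso _).inv c)) =
      (x.appLE ⊤ U.1 le_top ≫ i.app U.1) ((Scheme.ΓSpecIso _).inv c)
    rw [hx, i.app_eq_appLE, Scheme.Hom.appLE_comp_appLE]
    rfl
  rw [hr, ← happ h]
  show _ = quotSect i rfl U (_ * _)
  rw [map_mul]
  rfl

end Groth.Agent.Hilb85
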