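import Groth.Agent.QC70.HomMod
import Groth.Agent.QC70.Closure
import Groth.Agent.Curves2.IdealFrame

/-!
Morphisms from an ideal sheaf to `O_X/I` over an open are compatible families of linear maps
`I(U) → Γ(X,U)/I(U)` over the affine opens `U` inside it.
-/

set_option autoImplicit false
set_option linter.style.haveILetI false
set_option backward.isDefEq.respectTransparency false
universe u

open CategoryTheory CategoryTheory.Limits AlgebraicGeometry TopologicalSpace Opposite

noncomputable section

namespace Groth.Agent.Hilb85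

open QC70

variable {X : Scheme.{u}} (I : X.IdealSheafData)

/-- The restriction of the quotients. -/
def quotRes {U V : X.affineOpens} (h : V.1 ≤ U.1) : Γ(X, U.1) ⧸ I.ideal U →+* Γ(X, V.1) ⧸ I.ideal V :=
  Ideal.quotientMap _ (X.presheaf.map (homOfLE h).op).hom (I.ideal_le_comap_ideal h)

/-- The restriction of the ideals. -/
def idealRes {U V : X.affineOpens} (h : V.1 ≤ U.1) (y : I.ideal U) : I.ideal V :=
  ⟨(X.presheaf.map (homOfLE h).op).hom y, I.ideal_le_comap_ideal h y.2⟩

/-- A compatible family of linear maps on the affine opens inside `P`. -/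
@[ext]
structure HomFam (P : X.Opens) : Type u where
  /-- The maps. -/
  map : ∀ U : X.affineOpens, U.1 ≤ P → (I.ideal U →ₗ[Γ(X, U.1)] Γ(X, U.1) ⧸ I.ideal U)
  compat : ∀ {U V : X.affineOpens} (hU : U.1 ≤ P) (h : V.1 ≤ U.1) (y : I.ideal U),
    map V (h.trans hU) (idealRes I h y) = quotRes I h (map U hU y)

variable {I} {P : X.Opens}

namespace HomFam

instance : Zero (HomFam I P) := ⟨⟨fun _ _ => 0, fun _ _ _ => (map_zero _).symm⟩⟩

instance : Add (HomFam I P) :=
  ⟨fun a b => ⟨fun U hU => a.map U hU + b.map U hU, fun hU h y => by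
    simp [a.compat hU h y, b.compat hU h y]⟩⟩

instance : Neg (HomFam I P) :=
  ⟨fun a => ⟨fun U hU => -a.map U hU, fun hU h y => by simp [a.compat hU h y]⟩⟩

@[simp] theorem add_map (a b : HomFam I P) (U : X.affineOpens) (hU : U.1 ≤ P) :
    (a + b).map U hU = a.map U hU + b.map U hU := rfl

@[simp] theorem zero_map (U : X.affineOpens) (hU : U.1 ≤ P) : (0 : HomFam I P).map U hU = 0 := rfl

@[simp] theorem neg_map (a : HomFam I P) (U : X.affineOpens) (hU : U.1 ≤ P) :
    (-a).map U hU = -a.map U hU := rfl

instance : AddCommGroup (HomFam I P) where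
  nsmul := nsmulRec
  zsmul := zsmulRec
  add_assoc a b c := by ext U hU y; simp [add_assoc]
  zero_add a := by ext U hU y; simp
  add_zero a := by ext U hU y; simp
  neg_add_cancel a := by ext U hU y; simp
  add_comm a b := by ext U hU y; simp [add_comm]

/-- Restriction to a smaller open. -/
def mono {Q : X.Opens} (a : HomFam I P) (h : Q ≤ P) : HomFam I Q where
  map U hU := a.map U (hU.trans h)
  compat hU hVU y := a.compat (hU.trans h) hVU y

end HomFam

variable {Z : Scheme.{u}} (i : Z ⟶ X) [IsClosedImmersion i] (hi : i.ker = I)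

/-- Sections of `i_* O_Z` over an affine open. -/
def quotSect (U : X.affineOpens) : (Γ(X, U.1) ⧸ I.ideal U) ≃+* Γ(Z, i ⁻¹ᵁ U.1) :=
  (Ideal.quotEquivOfEq (show I.ideal U = RingHom.ker (i.app U.1).hom by rw [← hi, Scheme.Hom.ker_apply])).trans
    (RingHom.quotientKerEquivOfSurjective (f := (i.app U.1).hom) (i.app_surjective U.1 U.2))

theorem quotSect_mk (U : X.affineOpens) (a : Γ(X, U.1)) :
    quotSect i hi U (Ideal.Quotient.mk _ a) = i.app U.1 a := rfl

/-- The module `i_* O_Z`. -/
abbrev pushO : X.Modules := (Scheme.Modules.pushforward i).obj (Coh.structureModule Z)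

/-- The same as an element of the module. -/
def quotElt (U : X.affineOpens) (c : Γ(X, U.1) ⧸ I.ideal U) : Γ(pushO i, U.1) :=
  (quotSect i hi U c : Γ(Z, i ⁻¹ᵁ U.1))

theorem quotElt_bijective (U : X.affineOpens) : Function.Bijective (quotElt i hi U) :=
  (quotSect i hi U).bijective

theorem quotElt_add (U : X.affineOpens) (c d : Γ(X, U.1) ⧸ I.ideal U) :
    quotElt i hi U (c + d) = quotElt i hi U c + quotElt i hi U d := map_add (quotSect i hi U) c d

theorem quotElt_smul (U : X.affineOpens) (r : Γ(X, U.1)) (c : Γ(X, U.1) ⧸ I.ideal U) :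
    quotElt i hi U (r • c) = r • quotElt i hi U c := by
  obtain ⟨a, rfl⟩ := Ideal.Quotient.mk_surjective c
  show quotSect i hi U (Ideal.Quotient.mk _ (r * a)) = _
  rw [map_mul, map_mul]
  rfl

theorem quotElt_res {U V : X.affineOpens} (h : V.1 ≤ U.1) (c : Γ(X, U.1) ⧸ I.ideal U) :
    res (pushO i) h (quotElt i hi U c) = quotElt i hi V (quotRes I h c) := by
  obtain ⟨a, rfl⟩ := Ideal.Quotient.mk_surjective c
  show (Z.presheaf.map _).hom (i.app U.1 a) = i.app V.1 _
  exact ((NatTrans.naturality_apply i.c (homOfLE h).op a).symm :)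

/-- The ideal element of a section on an affine open. -/
def idealElt (I : X.IdealSheafData) (U : X.affineOpens) (s : Γ(ClSub.idealMod I, U.1)) : I.ideal U :=
  ⟨OmegaSh.idealSect I U.1 s, Curves2.idealSect_mem_ideal I U s⟩

theorem idealElt_bijective (U : X.affineOpens) : Function.Bijective (idealElt I U) :=
  ⟨fun _ _ h => OmegaSh.idealModι_app_injective (W := U.1) I (congrArg Subtype.val h), fun y =>
    (Curves2.exists_idealSect_of_mem I U y.2).imp fun _ hm => Subtype.ext hm⟩

theorem idealElt_add (U : X.affineOpens) (s t : Γ(ClSub.idealMod I, U.1)) :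
    idealElt I U (s + t) = idealElt I U s + idealElt I U t :=
  Subtype.ext (map_add (OmegaSh.idealSect I U.1) s t)

theorem idealElt_smul (U : X.affineOpens) (r : Γ(X, U.1)) (s : Γ(ClSub.idealMod I, U.1)) :
    idealElt I U (r • s) = r • idealElt I U s := Subtype.ext (Omega57.idealSect_smul I U.1 r s)

theorem idealElt_res {U V : X.affineOpens} (h : V.1 ≤ U.1) (s : Γ(ClSub.idealMod I, U.1)) :
    idealElt I V (QC70.res (ClSub.idealMod I) h s) = idealRes I h (idealElt I U s) :=
  Subtype.ext (Curves2.idealSect_res I h s)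

/-- The family of a local morphism. -/
def HomFam.ofHomOn (φ : HomOn (ClSub.idealMod I) (pushO i) P) : HomFam I P where
  map U hU :=
    { toFun := fun y => (Equiv.ofBijective _ (quotElt_bijective i hi U)).symm
        (φ.app U.1 hU ((Equiv.ofBijective _ (idealElt_bijective U)).symm y))
      map_add' := fun y y' => (quotElt_bijective i hi U).injective (by
        rw [quotElt_add i hi]
        simp only [Equiv.ofBijective_apply_symm_apply]
        rw [← map_add]
        congr 1
        refine (idealElt_bijective U).injective ?_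
        rw [idealElt_add]
        simp only [Equiv.ofBijective_apply_symm_apply])
      map_smul' := fun r y => (quotElt_bijective i hi U).injective (by
        rw [RingHom.id_apply, quotElt_smul i hi]
        simp only [Equiv.ofBijective_apply_symm_apply]
        rw [← LinearMap.map_smul]
        congr 1
        refine (idealElt_bijective U).injective ?_
        rw [idealElt_smul]
        simp only [Equiv.ofBijective_apply_symm_apply]) }
  compat {U V} hU h y := (quotElt_bijective i hi V).injective (by
    rw [← quotElt_res i hi]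
    simp only [LinearMap.coe_mk, AddHom.coe_mk, Equiv.ofBijective_apply_symm_apply]
    rw [← φ.app_res hU h]
    congr 1
    refine (idealElt_bijective V).injective ?_
    rw [idealElt_res]
    simp only [Equiv.ofBijective_apply_symm_apply])

theorem HomFam.ofHomOn_map (φ : HomOn (ClSub.idealMod I) (pushO i) P) (U : X.affineOpens)
    (hU : U.1 ≤ P) (s : Γ(ClSub.idealMod I, U.1)) :
    quotElt i hi U ((HomFam.ofHomOn i hi φ).map U hU (idealElt I U s)) = φ.app U.1 hU s := by
  show quotElt i hi U ((Equiv.ofBijective _ (quotElt_bijective i hi U)).symm _) = _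
  simp only [Equiv.ofBijective_apply_symm_apply]
  congr 1
  exact (Equiv.ofBijective _ (idealElt_bijective U)).symm_apply_apply s

/-- The affine opens inside an open. -/
abbrev AffIn (W : X.Opens) : Type u := {U : X.affineOpens // U.1 ≤ W}

theorem le_iSup_affIn (W : X.Opens) : W ≤ ⨆ i : AffIn W, i.1.1 := fun p hp => by
  obtain ⟨_, ⟨V, hV, rfl⟩, hpV, hVW⟩ := X.isBasis_affineOpens.exists_subset_of_mem_open hp W.2
  exact Opens.mem_iSup.2 ⟨⟨⟨V, hV⟩, hVW⟩, hpV⟩

theorem HomFam.exists_app (a : HomFam I P) {W : X.Opens} (hW : W ≤ P) (s : Γ(ClSub.idealMod I, W)) :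
    ∃ t : Γ(pushO i, W), ∀ v : AffIn W, QC70.res (pushO i) v.2 t =
      quotElt i hi v.1 (a.map v.1 (v.2.trans hW) (idealElt I v.1 (QC70.res (ClSub.idealMod I) v.2 s))) := by
  refine exists_glue _ (fun v : AffIn W => v.1.1) (fun v => v.2) (le_iSup_affIn W) _ fun v w => ?_
  refine section_ext' _ (fun V : AffIn (v.1.1 ⊓ w.1.1) => V.1.1) (fun V => V.2) (le_iSup_affIn _) _ _ fun V => ?_
  rw [res_res, res_res, quotElt_res i hi, quotElt_res i hi, ← a.compat (v.2.trans hW), ← a.compat (w.2.trans hW),
    ← idealElt_res, ← idealElt_res, res_res, res_res]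

/-- The value of the morphism of a family. -/
def HomFam.appFun (a : HomFam I P) {W : X.Opens} (hW : W ≤ P) (s : Γ(ClSub.idealMod I, W)) :
    Γ(pushO i, W) := (a.exists_app i hi hW s).choose

theorem HomFam.appFun_spec (a : HomFam I P) {W : X.Opens} (hW : W ≤ P) (s : Γ(ClSub.idealMod I, W))
    (U : X.affineOpens) (hU : U.1 ≤ W) : QC70.res (pushO i) hU (a.appFun i hi hW s) =
      quotElt i hi U (a.map U (hU.trans hW) (idealElt I U (QC70.res (ClSub.idealMod I) hU s))) :=
  (a.exists_app i hi hW s).choose_spec ⟨U, hU⟩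

omit [IsClosedImmersion i] in
theorem HomFam.appFun_ext (W : X.Opens) (t t' : Γ(pushO i, W))
    (h : ∀ (U : X.affineOpens) (hU : U.1 ≤ W), QC70.res (pushO i) hU t = QC70.res _ hU t') : t = t' :=
  section_ext' _ (fun V : AffIn W => V.1.1) (fun V => V.2) (le_iSup_affIn W) t t' fun V => h V.1 V.2

/-- The local morphism of a family. -/
def HomFam.toHomOn (a : HomFam I P) : HomOn (ClSub.idealMod I) (pushO i) P where
  app W hW :=
    { toFun := a.appFun i hi hW
      map_add' := fun s t => HomFam.appFun_ext i W _ _ fun U hU => by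
        rw [res_add, a.appFun_spec i hi hW _ U hU, a.appFun_spec i hi hW _ U hU, a.appFun_spec i hi hW _ U hU,
          res_add, idealElt_add, map_add, quotElt_add i hi]
      map_smul' := fun r s => HomFam.appFun_ext i W _ _ fun U hU => by
        rw [RingHom.id_apply, res_smul, a.appFun_spec i hi hW _ U hU, a.appFun_spec i hi hW _ U hU,
          res_smul, idealElt_smul, map_smul, quotElt_smul i hi] }
  app_res {W W'} hW h s := HomFam.appFun_ext i W' _ _ fun U hU => by
    show QC70.res _ hU (a.appFun i hi (h.trans hW) _) = QC70.res _ hU (QC70.res _ h (a.appFun i hi hW s))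
    rw [res_res, a.appFun_spec i hi _ _ U hU, a.appFun_spec i hi hW s U (hU.trans h), res_res]

theorem HomFam.toHomOn_app_affine (a : HomFam I P) (U : X.affineOpens) (hU : U.1 ≤ P)
    (s : Γ(ClSub.idealMod I, U.1)) : (a.toHomOn i hi).app U.1 hU s = quotElt i hi U (a.map U hU (idealElt I U s)) := by
  have h := a.appFun_spec i hi hU s U le_rfl
  rw [res_self, res_self] at h
  exact h

/-- Local morphisms out of the ideal sheaf into `O/I` are the compatible families. -/
def homFamEquiv (P : X.Opens) :
    HomOn (ClSub.idealMod I) (pushO i) P ≃+ HomFam I P where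
  toFun := HomFam.ofHomOn i hi
  invFun := fun a => a.toHomOn i hi
  left_inv φ := HomOn.ext' fun W hW s => HomFam.appFun_ext i W _ _ fun U hU => by
    show QC70.res _ hU ((HomFam.ofHomOn i hi φ).appFun i hi hW s) = _
    rw [(HomFam.ofHomOn i hi φ).appFun_spec i hi hW s U hU, HomFam.ofHomOn_map i hi, φ.app_res]
  right_inv a := HomFam.ext (funext fun U => funext fun hU => LinearMap.ext fun y => by
    obtain ⟨s, rfl⟩ := (idealElt_bijective U).surjective y
    refine (quotElt_bijective i hi U).injective ?_
    rw [HomFam.ofHomOn_map i hi, HomFam.toHomOn_app_affine i hi])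
  map_add' φ ψ := HomFam.ext (funext fun U => funext fun hU => LinearMap.ext fun y => by
    obtain ⟨s, rfl⟩ := (idealElt_bijective U).surjective y
    refine (quotElt_bijective i hi U).injective ?_
    rw [HomFam.add_map, LinearMap.add_apply, quotElt_add i hi, HomFam.ofHomOn_map i hi, HomFam.ofHomOn_map i hi,
      HomFam.ofHomOn_map i hi, HomOn.add_app]
    rfl)

/-- Morphisms are local morphisms over the whole space. -/
def homOnTopEquiv (M N : X.Modules) : (M ⟶ N) ≃+ HomOn M N (⊤ : X.Opens) where
  toFun f := HomOn.ofHom f ⊤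
  invFun := HomOn.toHom
  left_inv f := Scheme.Modules.hom_ext _ _ fun W => ConcreteCategory.hom_ext _ _ fun s => HomOn.toHom_app _ W s
  right_inv φ := HomOn.ext' fun W hW s => HomOn.toHom_app φ W s
  map_add' f g := HomOn.ext' fun W hW s => by
    rw [HomOn.add_app]
    rfl

end Groth.Agent.Hilb85
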