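import Groth.Agent.Hilb85.Charts
import Groth.Agent.Hilb85.IdealHom

/-!
The fibres of `localHilb (A') → localHilb (A)` over a semismall extension: torsors under tuples of
compatible families `I₀(U) → Γ(X,U)/I₀(U)`.
-/

set_option autoImplicit false
set_option linter.style.haveILetI false
set_option backward.isDefEq.respectTransparency false
universe u

open CategoryTheory CategoryTheory.Limits AlgebraicGeometry TopologicalSpace Opposite
open ArtFun ArtFun.Art

noncomputable section

namespace Groth.Agent.Hilb85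

variable {k : Type u} [Field k] {X : Scheme.{u}} {x : X ⟶ specPt k} {I₀ : X.IdealSheafData}

theorem art_sub_mem (A : Art k k) (a : A.carrier) :
    a - algebraMap k A.carrier (A.res a) ∈ IsLocalRing.maximalIdeal A.carrier := by
  rw [A.mem_maximalIdeal_iff, map_sub, AlgHom.commutes]
  exact sub_self _

/-- Coordinates on the kernel of a semismall extension. -/
theorem exists_coords {A' A : Art k k} (p : A' ⟶ A) (hp : IsSemismallExt p) :
    ∃ (ι : Type u) (_ : Fintype ι) (e : ι → A'.carrier),
      LiftAlg.Small (RingHom.ker p.toAlgHom) (IsLocalRing.maximalIdeal A'.carrier) e ∧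
        ∀ c : ι → k, ∑ i, c i • e i = 0 → c = 0 := by
  classical
  let J : Ideal A'.carrier := RingHom.ker p.toAlgHom
  have hkill : ∀ (a : A'.carrier), ∀ j ∈ J, a * j = A'.res a • j := by
    intro a j hj
    have h := Ideal.mul_mem_mul (art_sub_mem A' a) hj
    rw [show IsLocalRing.maximalIdeal A'.carrier * J = ⊥ from hp.2, Ideal.mem_bot, sub_mul, sub_eq_zero] at h
    rw [h, Algebra.smul_def]
  let V : Submodule k A'.carrier := J.restrictScalars k
  haveI : Module.Finite k V := by
    obtain ⟨S, hS⟩ := (IsNoetherian.noetherian J : J.FG)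
    refine Module.Finite.iff_fg.2 ⟨S, le_antisymm (Submodule.span_le.2 fun s hs => hS.le (Submodule.subset_span hs)) ?_⟩
    intro v hv
    have hv' : v ∈ Submodule.span A'.carrier (S : Set A'.carrier) := hS.symm ▸ hv
    obtain ⟨c, -, hc⟩ := Submodule.mem_span_finset.1 hv'
    rw [← hc]
    refine Submodule.sum_mem _ fun s hs => ?_
    rw [smul_eq_mul, hkill (c s) s (hS.le (Submodule.subset_span hs))]
    exact Submodule.smul_mem _ _ (Submodule.subset_span hs)
  let b := Module.finBasis k V
  refine ⟨ULift (Fin (Module.finrank k V)), inferInstance, fun i => (b i.down : A'.carrier),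
    ⟨?_, hp.2, ?_, ?_⟩, ?_⟩
  · refine IsLocalRing.le_maximalIdeal ?_
    rw [Ne, Ideal.eq_top_iff_one, RingHom.mem_ker, map_one]
    exact one_ne_zero
  · refine le_antisymm (Ideal.span_le.2 ?_) fun j hj => ?_
    · rintro _ ⟨i, rfl⟩
      exact (b i.down).2
    · have h := congrArg (Subtype.val : V → A'.carrier) (b.sum_repr ⟨j, hj⟩)
      rw [Submodule.coe_sum] at h
      rw [show j = _ from h.symm]
      refine Ideal.sum_mem _ fun i _ => ?_
      rw [Submodule.coe_smul, Algebra.smul_def]
      exact Ideal.mul_mem_left _ _ (Ideal.subset_span ⟨⟨i⟩, rfl⟩)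
  · intro a ha i
    have h : ∑ l : ULift (Fin (Module.finrank k V)), A'.res (a l) • (b l.down : A'.carrier) = 0 := by
      rw [← ha]
      exact Finset.sum_congr rfl fun l _ => (hkill (a l) _ (b l.down).2).symm
    have h2 : ∑ l, A'.res (a ⟨l⟩) • b l = 0 := Subtype.ext (by
      rw [Submodule.coe_sum]
      rw [← Equiv.ulift.symm.sum_comp] at h
      simpa using h)
    exact (A'.mem_maximalIdeal_iff _).2 (Fintype.linearIndependent_iff.1 b.linearIndependent _ h2 i.down)
  · intro c hc
    have h2 : ∑ l, c ⟨l⟩ • b l = 0 := Subtype.ext (by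
      rw [Submodule.coe_sum]
      rw [← Equiv.ulift.symm.sum_comp] at hc
      simpa using hc)
    funext i
    exact Fintype.linearIndependent_iff.1 b.linearIndependent _ h2 i.down

theorem red_algebraMap (A : Art k k) (U : X.affineOpens) (a : A.carrier) :
    red x A U (algebraMap A.carrier (sects x A U) a) = baseMap (A' := CommRingCat.of k) x U.1 (A.res a) :=
  appLE_baseMap (φ := CommRingCat.ofHom A.res.toRingHom) (isPullback_XAincl x A).w _ _ _ a

/-- Pairing a tuple of families into one linear map per chart. -/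
def tupleMap {ι : Type u} {P : X.Opens} (a : ι → HomFam I₀ P) (U : X.affineOpens) (hU : U.1 ≤ P) :
    I₀.ideal U →ₗ[Γ(X, U.1)] (ι → Γ(X, U.1) ⧸ I₀.ideal U) :=
  LinearMap.pi fun i => (a i).map U hU

variable {A' A : Art k k} {p : A' ⟶ A} {ι : Type u} [Fintype ι] {e : ι → A'.carrier}
  (hp : Function.Surjective p)
  (he : LiftAlg.Small (RingHom.ker p.toAlgHom) (IsLocalRing.maximalIdeal A'.carrier) e)

/-- `a` is the difference of two families. -/
def IsFamDiff (e : ι → A'.carrier) (a : ι → HomFam I₀ (⊤ : X.Opens)) (F F' : Fam I₀ x A') : Prop :=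
  ∀ U, LiftAlg.IsDiff (red x A' U) e (tupleMap a U le_top) (F.ideal U) (F'.ideal U)

/-- Two families with the same image over `A`. -/
def SameImage (p : A' ⟶ A) (F F' : Fam I₀ x A') : Prop :=
  ∀ U, (F.ideal U).map (gmap x p U) = (F'.ideal U).map (gmap x p U)

include hp

theorem sameBase_iff {U : X.affineOpens} (K K' : Ideal (sects x A' U)) :
    K.map (gmap x p U) = K'.map (gmap x p U) ↔ LiftAlg.SameBase (RingHom.ker p.toAlgHom) K K' := by
  have h : ∀ L : Ideal (sects x A' U), (L.map (gmap x p U)).comap (gmap x p U) =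
      L ⊔ (RingHom.ker p.toAlgHom).map (algebraMap A'.carrier (sects x A' U)) := fun L => by
    rw [Ideal.comap_map_of_surjective _ (surjective_gmap x p hp U), ← RingHom.ker_eq_comap_bot, ker_gmap x p hp U]
  constructor
  · intro e
    show _ = _
    rw [← h, ← h, e]
  · intro e
    have := congrArg (Ideal.map (gmap x p U)) ((h K).trans (e.trans (h K').symm))
    rwa [Ideal.map_comap_of_surjective _ (surjective_gmap x p hp U),
      Ideal.map_comap_of_surjective _ (surjective_gmap x p hp U)] at this

include he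

theorem exists_famDiff {F F' : Fam I₀ x A'} (hs : SameImage p F F') :
    ∃ a : ι → HomFam I₀ (⊤ : X.Opens), IsFamDiff e a F F' := by
  classical
  choose φ hφ using fun U => LiftAlg.exists_isDiff he (isRed x A' U) (F.lift U) (F'.lift U)
    ((sameBase_iff hp _ _).1 (hs U))
  refine ⟨fun i => ⟨fun U _ => (LinearMap.proj i).comp (φ U), fun {U V} _ h y => ?_⟩, fun U z hz hz₀ => ?_⟩
  · have := (hφ U).map (B' := sects x A' U) (C' := sects x A' V) (e' := e) (κ := ι) he (isRed x A' V) (F'.lift V)
      (RingHom.id A'.carrier) (res x A' h) (X.presheaf.map (homOfLE h).op).hom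
      (res_algebraMap x A' h) (res_red x A' h) (fun l j => if l = j then 1 else 0)
      (fun j => by simp) (isRed x A' U) (F.lift U) (F.compat h).le (F'.compat h).le
      (I₀.ideal_le_comap_ideal h) (hφ V) y i
    refine (this : φ V (idealRes I₀ h y) i = _).trans ?_
    rw [Finset.sum_eq_single i (fun j _ hj => by simp [hj.symm]) (fun hi => absurd (Finset.mem_univ i) hi)]
    simp only [if_true, map_one, one_mul]
    rfl
  · exact hφ U z hz hz₀

theorem famDiff_unique {F F' : Fam I₀ x A'} {a b : ι → HomFam I₀ (⊤ : X.Opens)} (ha : IsFamDiff e a F F')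
    (hb : IsFamDiff e b F F') : a = b := by
  funext i
  refine HomFam.ext (funext fun U => funext fun hU => LinearMap.ext fun y => ?_)
  exact congrFun (congrFun ((ha U).unique he (isRed x A' U) (F.lift U) (F'.lift U) (hb U)) y) i

theorem famDiff_inj {F F' F'' : Fam I₀ x A'} (hs : SameImage p F F') (hs' : SameImage p F F'')
    {a : ι → HomFam I₀ (⊤ : X.Opens)} (ha : IsFamDiff e a F F') (hb : IsFamDiff e a F F'') : F' = F'' :=
  Fam.ideal_injective fun U => le_antisymm
    ((ha U).ext he (isRed x A' U) (F'.lift U) (F''.lift U) ((sameBase_iff hp _ _).1 (hs U)) (hb U) (F.lift U))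
    ((hb U).ext he (isRed x A' U) (F''.lift U) (F'.lift U) ((sameBase_iff hp _ _).1 (hs' U)) (ha U) (F.lift U))

theorem exists_translate (F : Fam I₀ x A') (a : ι → HomFam I₀ (⊤ : X.Opens)) :
    ∃ F' : Fam I₀ x A', SameImage p F F' ∧ IsFamDiff e a F F' := by
  classical
  choose K hK hsame hdiff using fun U : X.affineOpens =>
    LiftAlg.exists_lift_isDiff he (isRed x A' U) (F.lift U) (tupleMap a U le_top)
  refine ⟨⟨K, fun {U V} h => ?_, hK⟩, fun U => (sameBase_iff hp _ _).2 (hsame U), hdiff⟩
  let f := res x A' h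
  have hfalg : f.comp (algebraMap A'.carrier (sects x A' U)) = algebraMap A'.carrier (sects x A' V) :=
    RingHom.ext (res_algebraMap x A' h)
  refine LiftAlg.IsLift.eq_of_le he (isRed x A' V) (hK V) (Ideal.map_le_iff_le_comap.2 fun y hy => ?_) ?_ ?_
  · obtain ⟨b₀, hb₀⟩ := LiftAlg.SameBase.exists_add he (hsame U).symm hy
    have hx₀ : red x A' U (y + LiftAlg.comb e b₀) ∈ I₀.ideal U := (F.lift U).mem_map hb₀
    have hco := (hdiff U).coeff_eq he (isRed x A' U) (hK U) hb₀ hx₀ (b := -b₀)
      (by simpa [LiftAlg.comb] using hy)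
    have hx' : f (y + LiftAlg.comb e b₀) ∈ F.ideal V := (F.compat h).le (Ideal.mem_map_of_mem f hb₀)
    have hx'₀ := (F.lift V).mem_map hx'
    obtain ⟨c, hc, hcφ⟩ := hdiff V _ hx' hx'₀
    have hcomb : f (LiftAlg.comb e b₀) = LiftAlg.comb e (fun l => f (b₀ l)) := by
      simp [LiftAlg.comb, Algebra.smul_def, f, res_algebraMap]
    have hd : ∀ i, red x A' V ((fun l => f (b₀ l)) i + c i) ∈ I₀.ideal V := fun i => by
      have h1 := (a i).compat (le_top : U.1 ≤ ⊤) h ⟨_, hx₀⟩
      have h2 : (a i).map V le_top ⟨_, hx'₀⟩ = quotRes I₀ h ((a i).map U le_top ⟨_, hx₀⟩) := by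
        rw [← h1]
        exact congrArg _ (Subtype.ext (res_red x A' h _))
      have hco' : Ideal.Quotient.mk (I₀.ideal U) (red x A' U ((-b₀) i)) = (a i).map U le_top ⟨_, hx₀⟩ := hco i
      have h3 : Ideal.Quotient.mk (I₀.ideal V) (red x A' V (c i)) = (a i).map V le_top ⟨_, hx'₀⟩ := hcφ i
      rw [h2, ← hco'] at h3
      rw [quotRes, Ideal.quotientMap_mk, Ideal.Quotient.eq, Pi.neg_apply, map_neg, map_neg, sub_neg_eq_add] at h3
      rw [map_add, res_red]
      rwa [add_comm] at h3
    have h4 := (K V).sub_mem hc ((hK V).comb_mem he (isRed x A' V) hd)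
    show f y ∈ K V
    rw [map_add, hcomb, show (fun i => f (b₀ i) + c i) = (fun l => f (b₀ l)) + c from rfl, LiftAlg.comb_add] at h4
    convert h4 using 1
    abel
  · show _ ⊔ _ = _ ⊔ _
    rw [← hfalg, ← Ideal.map_map, ← Ideal.map_sup, ← (hsame U : F.ideal U ⊔ _ = K U ⊔ _), Ideal.map_sup,
      F.compat h, Ideal.map_map, hfalg]
    exact hsame V
  · rw [Ideal.map_map, show (red x A' V).comp f = (X.presheaf.map (homOfLE h).op).hom.comp (red x A' U) from
      RingHom.ext (res_red x A' h), ← Ideal.map_map, (hK U).map]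
    exact I₀.map_ideal h

/-- The fibre through `F` is in bijection with the tuples of families. -/
def fibreEquiv (F : Fam I₀ x A') :
    {F' : Fam I₀ x A' // SameImage p F F'} ≃ (ι → HomFam I₀ (⊤ : X.Opens)) where
  toFun F' := (exists_famDiff hp he F'.2).choose
  invFun a := ⟨(exists_translate hp he F a).choose, (exists_translate hp he F a).choose_spec.1⟩
  left_inv F' := Subtype.ext (famDiff_inj hp he (exists_translate hp he F _).choose_spec.1 F'.2
    (exists_translate hp he F _).choose_spec.2 (exists_famDiff hp he F'.2).choose_spec)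
  right_inv a := famDiff_unique hp he
    (exists_famDiff hp he (exists_translate hp he F a).choose_spec.1).choose_spec
    (exists_translate hp he F a).choose_spec.2

theorem fibreEquiv_spec (F : Fam I₀ x A') (F' : {F' : Fam I₀ x A' // SameImage p F F'}) :
    IsFamDiff e (fibreEquiv hp he F F') F F'.1 :=
  (exists_famDiff hp he F'.2).choose_spec

omit he

/-- The fibre of the local Hilbert functor in families. -/
def fibreFamEquiv (I' : (localHilb X x I₀).obj A') :
    {J : (localHilb X x I₀).obj A' // (localHilb X x I₀).map p J = (localHilb X x I₀).map p I'} ≃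
      {F' : Fam I₀ x A' // SameImage p (famEquiv A' I') F'} :=
  (famEquiv A').subtypeEquiv fun J => by
    refine ⟨fun h U => ?_, fun h => (famEquiv A).injective (Fam.ideal_injective fun U => ?_)⟩
    · rw [← famEquiv_map, ← famEquiv_map, h]
    · rw [famEquiv_map, famEquiv_map, h U]

end Groth.Agent.Hilb85
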