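import Groth.Agent.Hilb85.SplitH1
import Groth.Agent.Serre71.HHLin
import Mathlib.CategoryTheory.Preadditive.Injective.Basic

/-!
The class in `H¹` of a one-cocycle of sections.
-/

set_option autoImplicit false
set_option linter.style.haveILetI false
set_option backward.isDefEq.respectTransparency.types false
universe u

open CategoryTheory CategoryTheory.Limits AlgebraicGeometry TopologicalSpace Opposite

noncomputable section

namespace Groth.Agent.Hilb85

open Groth.Agent QC70 Lift3

variable {X : Scheme.{u}} {N : X.Modules} {σ : Type u} (W : σ → X.Opens)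

/-- The cocycle condition on sections. -/
def IsSecCocycle (δ : ∀ i j, Γ(N, W i ⊓ W j)) : Prop :=
  ∀ (i j l : σ) (V : X.Opens) (hij : V ≤ W i ⊓ W j) (hjl : V ≤ W j ⊓ W l) (hil : V ≤ W i ⊓ W l),
    res N hil (δ i l) = res N hij (δ i j) + res N hjl (δ j l)

variable (N) in
/-- The injective envelope. -/
abbrev envI : X.Modules := Injective.under N

variable (N) in
/-- The embedding. -/
abbrev envι : N ⟶ envI N := Injective.ι N

variable (N) in
/-- The quotient. -/
abbrev envQ : X.Modules := cokernel (Injective.ι N)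

variable (N) in
/-- The projection. -/
abbrev envπ : envI N ⟶ envQ N := cokernel.π (Injective.ι N)

variable (N) in
/-- An injective embedding as a short exact sequence. -/
abbrev embSES : ShortComplex X.Modules :=
  ShortComplex.mk (envι N) (envπ N) (cokernel.condition _)

variable (N) in
theorem embSES_shortExact : (embSES N).ShortExact :=
  { exact := ShortComplex.exact_cokernel (Injective.ι N)
    mono_f := inferInstanceAs (Mono (Injective.ι N))
    epi_g := inferInstanceAs (Epi (cokernel.π (Injective.ι N))) }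

theorem embSES_f_injective (U : X.Opens) : Function.Injective ((envι N).app U) :=
  Coh69.sect_injective (Crv77.abComplex_shortExact (embSES_shortExact N)) U

theorem embSES_exact (U : X.Opens) (s : Γ((envI N), U)) (h : (envπ N).app U s = 0) :
    ∃ t, (envι N).app U t = s :=
  Coh69.sect_exact (Crv77.abComplex_shortExact (embSES_shortExact N)) U s h

theorem embSES_g_f (U : X.Opens) (t : Γ(N, U)) : (envπ N).app U ((envι N).app U t) = 0 :=
  Coh69.sect_f_g (Crv77.abComplex (embSES N)) U t

variable (k : Type u) [CommRing k] [X.Over (Spec (CommRingCat.of k))]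

variable (N) in
/-- The connecting map on global sections. -/
def connH1 : Γ(envQ N, ⊤) →+ Coh.HH X N 1 :=
  AddMonoidHom.mk' (fun q => Crv77.hδ k (embSES_shortExact N) 0 ((Serre71.hzero (envQ N)).symm q))
    fun a b => by
      show Crv77.hδ k (embSES_shortExact N) 0 _ = _
      erw [map_add, map_add]

theorem connH1_smul (a : k) (q : Γ(envQ N, ⊤)) :
    connH1 N k (Serre71.globalA k X a • q) = a • connH1 N k q := by
  refine Eq.trans (congrArg (Crv77.hδ k (embSES_shortExact N) 0) ?_) ((Crv77.hδ k (embSES_shortExact N) 0).map_smul a _)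
  refine (Serre71.hzero _).injective ?_
  rw [AddEquiv.apply_symm_apply, Serre71.hzero_smul, AddEquiv.apply_symm_apply]

theorem connH1_eq_zero_iff (q : Γ(envQ N, ⊤)) :
    connH1 N k q = 0 ↔ ∃ e : Γ(envI N, ⊤), (envπ N).app ⊤ e = q := by
  refine Iff.trans (Crv77.exact_g_δ k (embSES_shortExact N) 0 ((Serre71.hzero (envQ N)).symm q)) ⟨?_, ?_⟩
  · rintro ⟨y, hy⟩
    refine ⟨Serre71.hzero (envI N) y, ?_⟩
    rw [← Serre71.hzero_hmap (A := k)]
    exact (congrArg (Serre71.hzero (envQ N)) hy).trans ((Serre71.hzero (envQ N)).apply_symm_apply q)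
  · rintro ⟨e, he⟩
    refine ⟨(Serre71.hzero (envI N)).symm e, (Serre71.hzero (envQ N)).injective ?_⟩
    refine (Serre71.hzero_hmap (A := k) (envπ N) _).trans ?_
    rw [AddEquiv.apply_symm_apply, AddEquiv.apply_symm_apply, he]

/-- `c` is the class of `δ`. -/
def IsClass (δ : ∀ i j, Γ(N, W i ⊓ W j)) (c : Coh.HH X N 1) : Prop :=
  ∃ (η : ∀ i, Γ((envI N), W i)) (q : Γ((envQ N), ⊤)),
    (∀ i j, (envι N).app (W i ⊓ W j) (δ i j) = res _ inf_le_right (η j) - res _ inf_le_left (η i)) ∧
    (∀ i, res _ le_top q = (envπ N).app (W i) (η i)) ∧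
    c = connH1 N k q

variable {W} {k}

theorem IsClass.unique (hW : ∀ x : X, ∃ i, x ∈ W i) {δ : ∀ i j, Γ(N, W i ⊓ W j)} {c c' : Coh.HH X N 1}
    (h : IsClass W k δ c) (h' : IsClass W k δ c') : c = c' := by
  obtain ⟨η, q, hη, hq, rfl⟩ := h
  obtain ⟨η', q', hη', hq', rfl⟩ := h'
  have hcov : (⊤ : X.Opens) ≤ ⨆ i, W i := fun x _ => Opens.mem_iSup.2 (hW x)
  obtain ⟨e, he⟩ := exists_glue (envI N) W (fun _ => le_top) hcov (fun i => η i - η' i) fun i j => by
    rw [res_sub, res_sub]
    have h := (hη i j).symm.trans (hη' i j)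
    exact (sub_eq_sub_iff_sub_eq_sub.1 h).symm
  have hqe : q - q' = (envπ N).app ⊤ e := section_ext' _ W (fun _ => le_top) hcov _ _ fun i => by
    rw [res_sub, hq, hq', ← app_res, he, map_sub]
  rw [← sub_eq_zero, ← map_sub, connH1_eq_zero_iff]
  exact ⟨e, hqe.symm⟩

theorem exists_isClass (hW : ∀ x : X, ∃ i, x ∈ W i) {δ : ∀ i j, Γ(N, W i ⊓ W j)}
    (hδ : IsSecCocycle W δ) : ∃ c, IsClass W k δ c := by
  have hcov : (⊤ : X.Opens) ≤ ⨆ i, W i := fun x _ => Opens.mem_iSup.2 (hW x)
  let E := (envI N)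
  haveI : Injective E := inferInstanceAs (Injective (Injective.under N))
  have hExt : Subsingleton (Abelian.Ext.{u} (Coh.structureModule X) E 1) :=
    Abelian.Ext.subsingleton_of_injective _ E 0
  let δ' : ∀ i j, HomOn (Coh.structureModule X) E (W i ⊓ W j) :=
    fun i j => sectHom ((envι N).app _ (δ i j))
  have hδ' : Cocycle.IsCocycle W δ' := fun i j l V hij hjl hil a => by
    show (show Γ(X, V) from a) • res E hil ((envι N).app _ (δ i l)) =
      (show Γ(X, V) from a) • res E hij ((envι N).app _ (δ i j)) + (show Γ(X, V) from a) • res E hjl ((envι N).app _ (δ j l))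
    rw [← smul_add, ← app_res, ← app_res, ← app_res, ← map_add, hδ i j l V hij hjl hil]
  obtain ⟨ε, hε⟩ := cocyclesSplit_of_ext hExt W δ' hW hδ'
  let η : ∀ i, Γ(E, W i) := fun i => (ε i).app (W i) le_rfl (toUnit 1)
  have hη : ∀ i j, (envι N).app (W i ⊓ W j) (δ i j) = res _ inf_le_right (η j) - res _ inf_le_left (η i) := by
    intro i j
    have h := congrArg (fun φ : HomOn (Coh.structureModule X) E (W i ⊓ W j) =>
      φ.app _ le_rfl (toUnit 1)) (hε i j)
    simp only [δ', sectHom_app_one, res_self, HomOn.sub_app] at h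
    have hres : ∀ l (hl : W i ⊓ W j ≤ W l), ((ε l).mono hl).app _ le_rfl (toUnit 1) = res E hl (η l) := fun l hl => by
      rw [← (ε l).app_res le_rfl hl, show res (Coh.structureModule X) hl (toUnit (1 : Γ(X, W l))) =
        toUnit (1 : Γ(X, W i ⊓ W j)) from (res_unit hl _).trans (congrArg toUnit (map_one _))]
      rfl
    rw [hres j inf_le_right, hres i inf_le_left] at h
    exact h
  obtain ⟨q, hq⟩ := exists_glue (envQ N) W (fun _ => le_top) hcov (fun i => (envπ N).app (W i) (η i))
    fun i j => by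
      rw [← app_res, ← app_res, eq_comm, ← sub_eq_zero, ← map_sub, ← hη i j]
      exact embSES_g_f _ _
  exact ⟨_, η, q, hη, hq, rfl⟩

theorem IsClass.zero : IsClass W k (0 : ∀ i j, Γ(N, W i ⊓ W j)) 0 :=
  ⟨0, 0, fun i j => by simp [res_zero], fun i => by simp [res_zero], by simp⟩

theorem IsClass.add {δ δ' : ∀ i j, Γ(N, W i ⊓ W j)} {c c' : Coh.HH X N 1} (h : IsClass W k δ c)
    (h' : IsClass W k δ' c') : IsClass W k (δ + δ') (c + c') := by
  obtain ⟨η, q, hη, hq, rfl⟩ := h
  obtain ⟨η', q', hη', hq', rfl⟩ := h'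
  refine ⟨η + η', q + q', fun i j => ?_, fun i => ?_, (map_add _ _ _).symm⟩
  · simp only [Pi.add_apply, map_add, hη, hη', res_add]
    abel
  · simp only [Pi.add_apply, map_add, res_add, hq, hq']

theorem IsClass.sum {κ : Type u} (s : Finset κ) {δ : κ → ∀ i j, Γ(N, W i ⊓ W j)} {c : κ → Coh.HH X N 1}
    (h : ∀ l, IsClass W k (δ l) (c l)) : IsClass W k (∑ l ∈ s, δ l) (∑ l ∈ s, c l) := by
  classical
  induction s using Finset.induction with
  | empty => rw [Finset.sum_empty, Finset.sum_empty]; exact IsClass.zero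
  | insert a s ha ih => rw [Finset.sum_insert ha, Finset.sum_insert ha]; exact (h a).add ih

theorem IsClass.smul (a : k) {δ : ∀ i j, Γ(N, W i ⊓ W j)} {c : Coh.HH X N 1} (h : IsClass W k δ c) :
    IsClass W k (fun i j => resO X (le_top : W i ⊓ W j ≤ ⊤) (Serre71.globalA k X a) • δ i j) (a • c) := by
  obtain ⟨η, q, hη, hq, rfl⟩ := h
  refine ⟨fun i => resO X (le_top : W i ≤ ⊤) (Serre71.globalA k X a) • η i, Serre71.globalA k X a • q, fun i j => ?_,
    fun i => ?_, ?_⟩
  · rw [Scheme.Modules.Hom.app_smul, hη, smul_sub, res_smul, res_smul, resO_resO, resO_resO]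
  · rw [Scheme.Modules.Hom.app_smul, res_smul, hq]
  · exact (connH1_smul k a q).symm

theorem IsClass.restrict {τ : Type u} (f : τ → σ) {δ : ∀ i j, Γ(N, W i ⊓ W j)} {c : Coh.HH X N 1}
    (h : IsClass W k δ c) : IsClass (fun t => W (f t)) k (fun a b => δ (f a) (f b)) c := by
  obtain ⟨η, q, hη, hq, hc⟩ := h
  exact ⟨fun t => η (f t), q, fun a b => hη _ _, fun a => hq _, hc⟩

theorem IsClass.eq_zero_iff (hW : ∀ x : X, ∃ i, x ∈ W i) {δ : ∀ i j, Γ(N, W i ⊓ W j)} {c : Coh.HH X N 1}
    (h : IsClass W k δ c) :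
    c = 0 ↔ ∃ ε : ∀ i, Γ(N, W i), ∀ i j, δ i j = res N inf_le_right (ε j) - res N inf_le_left (ε i) := by
  constructor
  · intro hc
    obtain ⟨η, q, hη, hq, rfl⟩ := h
    obtain ⟨e, hqe⟩ := (connH1_eq_zero_iff k q).1 hc
    choose ε hε using fun i => embSES_exact (W i) (η i - res _ le_top e) (by
      rw [map_sub, app_res, hqe, hq, sub_self])
    refine ⟨ε, fun i j => embSES_f_injective _ ?_⟩
    rw [map_sub, hη, app_res, app_res, hε, hε, res_sub, res_sub, res_res, res_res]
    abel
  · rintro ⟨ε, hε⟩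
    refine h.unique hW ⟨fun i => (envι N).app (W i) (ε i), 0, fun i j => ?_, fun i => ?_, by simp⟩
    · rw [hε, map_sub, app_res, app_res]
    · rw [res_zero, embSES_g_f]

end Groth.Agent.Hilb85
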