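import Groth.Agent.Hilb85.ObsVanish
import Groth.Agent.Hilb85.ClassH1
import Groth.Prelude.Def_ArtFun3
import Mathlib.LinearAlgebra.TensorProduct.Basis

/-!
The obstruction theory of the local Hilbert functor with values in `H¹` of the normal sheaf.
-/

set_option autoImplicit false
set_option linter.style.haveILetI false
set_option linter.unusedSectionVars false
set_option backward.isDefEq.respectTransparency false
universe u

open CategoryTheory CategoryTheory.Limits AlgebraicGeometry TopologicalSpace Opposite TensorProduct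
open ArtFun ArtFun.Art

noncomputable section

namespace Groth.Agent.Hilb85

open QC70 Lift3

variable {X Z : Scheme.{u}} (i : Z ⟶ X) [IsClosedImmersion i] [IsLocallyNoetherian X]
  [DCoh.HasSheafHom (Omega.conormal i)]

/-- The normal sheaf. -/
abbrev normalSheaf : Z.Modules := (DCoh.sheafHom (Omega.conormal i)).obj (Coh.structureModule Z)

/-- Sections of the normal sheaf over a preimage are the families. -/
def secFam (P : X.Opens) : Γ(normalSheaf i, i ⁻¹ᵁ P) ≃+ HomFam i.ker P :=
  ((appEquiv ((sheafHomIso (Omega.conormal i)).app (Coh.structureModule Z)) (i ⁻¹ᵁ P)).trans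
    (AddEquiv.mk' ⟨ofSec, HomOn.toSec, fun _ => rfl, fun _ => rfl⟩ fun _ _ => rfl)).trans (pullFamEquiv i P)

theorem secFam_res {P Q : X.Opens} (h : Q ≤ P) (s : Γ(normalSheaf i, i ⁻¹ᵁ P)) :
    secFam i Q (QC70.res _ (i.preimage_mono h) s) = (secFam i P s).mono h := by
  let e := (sheafHomIso (Omega.conormal i)).app (Coh.structureModule Z)
  have h1 : ofSec (e.hom.app (i ⁻¹ᵁ Q) (QC70.res _ (i.preimage_mono h) s)) =
      (ofSec (e.hom.app (i ⁻¹ᵁ P) s)).mono (i.preimage_mono h) :=
    congrArg ofSec (QC70.app_res e.hom (i.preimage_mono h) s)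
  exact (congrArg (pullFam i Q) h1).trans (pullFam_mono i h _)

theorem secFam_smul {k : Type u} [Field k] [Z.Over (Spec (CommRingCat.of k))] (x : X ⟶ Spec (CommRingCat.of k))
    (hx : Z ↘ Spec (CommRingCat.of k) = i ≫ x) (a : k) {P : X.Opens} (s : Γ(normalSheaf i, i ⁻¹ᵁ P))
    (U : X.affineOpens) (hU : U.1 ≤ P) (y : i.ker.ideal U) :
    (secFam i P (resO Z (le_top : i ⁻¹ᵁ P ≤ ⊤) (Serre71.globalA k Z a) • s)).map U hU y =
      Ideal.Quotient.mk _ (baseMap (A' := CommRingCat.of k) x U.1 a) * (secFam i P s).map U hU y := by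
  obtain ⟨t, rfl⟩ := (idealElt_bijective U).surjective y
  refine (quotElt_bijective i rfl U).injective ?_
  let e := (sheafHomIso (Omega.conormal i)).app (Coh.structureModule Z)
  let r : Γ(Z, ⊤) := Serre71.globalA k Z a
  let s' := OmegaSh.pullSect i (ClSub.idealMod i.ker) U.1 t
  have happ : ∀ g, quotElt i rfl U ((secFam i P g).map U hU (idealElt i.ker U t)) =
      (ofSec (e.hom.app (i ⁻¹ᵁ P) g)).app (i ⁻¹ᵁ U.1) (i.preimage_mono hU) s' := fun g =>
    quotElt_pullFam i _ U hU t
  rw [happ, Scheme.Modules.Hom.app_smul]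
  show resO Z (i.preimage_mono hU) (resO Z (le_top : i ⁻¹ᵁ P ≤ ⊤) r) •
    (ofSec (e.hom.app (i ⁻¹ᵁ P) s)).app (i ⁻¹ᵁ U.1) (i.preimage_mono hU) s' = _
  have hr : resO Z (le_top (a := i ⁻¹ᵁ U.1)) r = i.app U.1 (baseMap (A' := CommRingCat.of k) x U.1 a) := by
    show (Z.presheaf.map _).hom ((Z ↘ Spec (CommRingCat.of k)).appTop ((Scheme.ΓSpecIso _).inv a)) =
      (x.appLE ⊤ U.1 le_top ≫ i.app U.1) ((Scheme.ΓSpecIso _).inv a)
    rw [hx, i.app_eq_appLE, Scheme.Hom.appLE_comp_appLE]
    rfl
  rw [resO_resO, hr, ← happ s]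
  show _ = quotSect i rfl U (_ * _)
  rw [map_mul]
  rfl

variable {k : Type u} [Field k] {x : X ⟶ specPt k}

/-- Pushing a local lift along a surjection of extensions. -/
theorem isLift_gmap {I₀ : X.IdealSheafData} {C D : Art k k} (g : C ⟶ D) (hg : Function.Surjective g)
    {U : X.affineOpens} {K : Ideal (sects x C U)} (hK : LiftAlg.IsLift (red x C U) (I₀.ideal U) C.carrier K) :
    LiftAlg.IsLift (red x D U) (I₀.ideal U) D.carrier (K.map (gmap x g U)) := by
  refine ⟨?_, by
    rw [Ideal.map_map, show (red x D U).comp (gmap x g U) = red x C U from RingHom.ext (red_gmap x g U)]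
    exact hK.map⟩
  haveI := hK.flat
  letI : Algebra C.carrier D.carrier := g.toAlgHom.toRingHom.toAlgebra
  letI : Algebra (sects x C U) (sects x D U) := (gmap x g U).toAlgebra
  letI : Algebra C.carrier (sects x D U) := ((algebraMap D.carrier (sects x D U)).comp g.toAlgHom.toRingHom).toAlgebra
  haveI : IsScalarTower C.carrier D.carrier (sects x D U) := IsScalarTower.of_algebraMap_eq fun _ => rfl
  let J : Ideal C.carrier := RingHom.ker g.toAlgHom
  let K' : Ideal (sects x D U) := K.map (gmap x g U)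
  let f : (sects x C U) →ₐ[C.carrier] sects x D U ⧸ K' :=
    { toRingHom := (Ideal.Quotient.mk K').comp (gmap x g U)
      commutes' := fun a => congrArg (Ideal.Quotient.mk K') (gmap_algebraMap x g U a) }
  have hfs : Function.Surjective f := Ideal.Quotient.mk_surjective.comp (surjective_gmap x g hg U)
  have hker : RingHom.ker f = K ⊔ J.map (algebraMap C.carrier (sects x C U)) := by
    show RingHom.ker ((Ideal.Quotient.mk K').comp (gmap x g U)) = _
    rw [← RingHom.comap_ker, Ideal.mk_ker, Ideal.comap_map_of_surjective _ (surjective_gmap x g hg U),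
      ← RingHom.ker_eq_comap_bot, ker_gmap x g hg U]
  let e : D.carrier ⊗[C.carrier] (sects x C U ⧸ K) ≃ₗ[C.carrier] sects x D U ⧸ K' :=
    (TensorProduct.congr (Ideal.quotientKerAlgEquivOfSurjective (f := Algebra.ofId C.carrier D.carrier) hg).symm.toLinearEquiv
      (LinearEquiv.refl _ _)).trans
    ((TensorProduct.quotTensorEquivQuotSMul (sects x C U ⧸ K) _).trans
    ((Classical.choice (LiftAlg.nonempty_quotSMul J K)).trans
    ((Ideal.quotientEquivAlgOfEq C.carrier hker.symm).trans
      (Ideal.quotientKerAlgEquivOfSurjective hfs)).toLinearEquiv))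
  exact Module.Flat.of_linearEquiv
    (LinearEquiv.extendScalarsOfSurjective (S := D.carrier) (show Function.Surjective (algebraMap C.carrier D.carrier) from hg) e).symm

variable {A' B' A : Art k k}

/-- A local lift pushed along a surjection over `A`. -/
def LocLift.push {I₀ : X.IdealSheafData} {p : A' ⟶ A} {q : B' ⟶ A} {F : Fam I₀ x A} {U : X.affineOpens}
    (L : LocLift p F U) (g : A' ⟶ B') (hg : Function.Surjective g) (hgq : g ≫ q = p) : LocLift q F U where
  ideal := L.ideal.map (gmap x g U)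
  lift := isLift_gmap g hg L.lift
  map := by
    have h : (gmap x q U).comp (gmap x g U) = gmap x p U := by
      refine RingHom.ext fun s => ?_
      subst hgq
      show ((XAmap x g).appLE _ _ _ ≫ (XAmap x q).appLE _ _ _) s = (XAmap x (g ≫ q)).appLE _ _ _ s
      rw [Scheme.Hom.appLE_comp_appLE]
      simp only [XAmap_comp]
    rw [Ideal.map_map, h, L.map]

/-- A cover with local lifts. -/
structure LiftData (p : A' ⟶ A) (F : Fam i.ker x A) : Type (u + 1) where
  /-- the index type -/
  idx : Type u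
  /-- the cover -/
  U : idx → X.affineOpens
  cover : ∀ q : X, ∃ j, q ∈ (U j).1
  /-- the lifts -/
  L : ∀ j, LocLift p F (U j)

variable {i}
variable [Z.Over (Spec (CommRingCat.of k))]

namespace LiftData

variable {p : A' ⟶ A} {F : Fam i.ker x A} (D : LiftData i p F)

/-- The cover of `Z`. -/
abbrev W (j : D.idx) : Z.Opens := i ⁻¹ᵁ (D.U j).1

theorem coverZ (z : Z) : ∃ j, z ∈ D.W j := D.cover (i z)

variable {ι : Type u} [Fintype ι] (e : ι → A'.carrier)

/-- `cl` are the classes of the differences of the lifts. -/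
def IsClassTuple (cl : ι → Coh.HH Z (normalSheaf i) 1) : Prop :=
  ∃ d : ∀ j l, ι → HomFam i.ker ((D.U j).1 ⊓ (D.U l).1),
    (∀ j l, IsLocDiff e (D.L j) (D.L l) (d j l)) ∧
      ∀ c, IsClass D.W k (fun j l => (secFam i ((D.U j).1 ⊓ (D.U l).1)).symm (d j l c)) (cl c)

variable {e}
variable (hp : Function.Surjective p)
  (he : LiftAlg.Small (RingHom.ker p.toAlgHom) (IsLocalRing.maximalIdeal A'.carrier) e)

include hp he

omit [Z.Over (Spec (CommRingCat.of k))] in
theorem locDiff_unique {U U' : X.affineOpens} {L : LocLift p F U} {L' : LocLift p F U'}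
    {a b : ι → HomFam i.ker (U.1 ⊓ U'.1)} (ha : IsLocDiff e L L' a) (hb : IsLocDiff e L L' b) : a = b := by
  funext c
  refine HomFam.ext (funext fun V => funext fun hV => LinearMap.ext fun y => ?_)
  exact congrFun (congrFun ((ha V hV).unique he (isRed x A' V) (L.restrict _).lift (L'.restrict _).lift (hb V hV)) y) c

omit [Z.Over (Spec (CommRingCat.of k))] in
theorem isSecCocycle {d : ∀ j l, ι → HomFam i.ker ((D.U j).1 ⊓ (D.U l).1)}
    (hd : ∀ j l, IsLocDiff e (D.L j) (D.L l) (d j l)) (c : ι) :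
    IsSecCocycle D.W (fun j l => (secFam i ((D.U j).1 ⊓ (D.U l).1)).symm (d j l c)) := by
  intro q₁ q₂ q₃ V h12 h23 h13
  let P := (D.U q₁).1 ⊓ (D.U q₂).1 ⊓ (D.U q₃).1
  have hV : V ≤ i ⁻¹ᵁ P := le_inf h12 (h13.trans inf_le_right)
  have key : QC70.res (normalSheaf i) (i.preimage_mono (inf_le_inf_right _ inf_le_left : P ≤ (D.U q₁).1 ⊓ (D.U q₃).1))
      ((secFam i _).symm (d q₁ q₃ c)) =
      QC70.res (normalSheaf i) (i.preimage_mono (inf_le_left : P ≤ (D.U q₁).1 ⊓ (D.U q₂).1)) ((secFam i _).symm (d q₁ q₂ c)) +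
      QC70.res (normalSheaf i) (i.preimage_mono (inf_le_inf_right _ inf_le_right : P ≤ (D.U q₂).1 ⊓ (D.U q₃).1))
        ((secFam i _).symm (d q₂ q₃ c)) := by
    apply (secFam i P).injective
    rw [map_add, secFam_res i (inf_le_inf_right _ inf_le_left : P ≤ (D.U q₁).1 ⊓ (D.U q₃).1),
      secFam_res i (inf_le_left : P ≤ (D.U q₁).1 ⊓ (D.U q₂).1),
      secFam_res i (inf_le_inf_right _ inf_le_right : P ≤ (D.U q₂).1 ⊓ (D.U q₃).1), AddEquiv.apply_symm_apply, AddEquiv.apply_symm_apply,
      AddEquiv.apply_symm_apply]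
    exact HomFam.ext (funext fun V' => funext fun hV' =>
      locDiff_cocycle hp he (hd q₁ q₂) (hd q₂ q₃) (hd q₁ q₃) c V' _ _ _)
  have := congrArg (QC70.res (normalSheaf i) hV) key
  rwa [QC70.res_add, QC70.res_res, QC70.res_res, QC70.res_res] at this

theorem exists_isClassTuple : ∃ cl, D.IsClassTuple e cl := by
  choose d hd using fun j l => exists_locDiff hp he (D.L j) (D.L l)
  choose cl hcl using fun c => exists_isClass (k := k) D.coverZ (D.isSecCocycle hp he hd c)
  exact ⟨cl, d, hd, hcl⟩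

theorem isClassTuple_unique {cl cl' : ι → Coh.HH Z (normalSheaf i) 1} (h : D.IsClassTuple e cl)
    (h' : D.IsClassTuple e cl') : cl = cl' := by
  obtain ⟨d, hd, hcl⟩ := h
  obtain ⟨d', hd', hcl'⟩ := h'
  obtain rfl : d = d' := funext fun j => funext fun l => locDiff_unique hp he (hd j l) (hd' j l)
  exact funext fun c => (hcl c).unique D.coverZ (hcl' c)

omit hp he in
theorem IsClassTuple.restrict {cl : ι → Coh.HH Z (normalSheaf i) 1} (h : D.IsClassTuple e cl) {τ : Type u}
    (f : τ → D.idx) (hf : ∀ q : X, ∃ t, q ∈ (D.U (f t)).1) :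
    LiftData.IsClassTuple (⟨τ, fun t => D.U (f t), hf, fun t => D.L (f t)⟩ : LiftData i p F) e cl := by
  obtain ⟨d, hd, hcl⟩ := h
  exact ⟨fun a b => d (f a) (f b), fun a b => hd _ _, fun c => (hcl c).restrict f⟩

/-- The classes do not depend on the cover and the lifts. -/
theorem isClassTuple_eq (D' : LiftData i p F) {cl cl' : ι → Coh.HH Z (normalSheaf i) 1}
    (h : D.IsClassTuple e cl) (h' : D'.IsClassTuple e cl') : cl = cl' := by
  let D'' : LiftData i p F := ⟨D.idx ⊕ D'.idx, Sum.elim D.U D'.U,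
    fun q => let ⟨j, hj⟩ := D.cover q; ⟨Sum.inl j, hj⟩,
    fun j => Sum.rec (motive := fun j => LocLift p F (Sum.elim D.U D'.U j)) D.L D'.L j⟩
  obtain ⟨cl'', hcl''⟩ := D''.exists_isClassTuple hp he
  exact (D.isClassTuple_unique hp he h (hcl''.restrict D'' Sum.inl D.cover)).trans
    (D'.isClassTuple_unique hp he (hcl''.restrict D'' Sum.inr D'.cover) h')

omit hp he

variable (hx : Z ↘ Spec (CommRingCat.of k) = i ≫ x)

include hp he hx in
/-- Functoriality of the classes. -/
theorem isClassTuple_push {q : B' ⟶ A} {κ : Type u} [Fintype κ] {e' : κ → B'.carrier}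
    (hq : Function.Surjective q)
    (he' : LiftAlg.Small (RingHom.ker q.toAlgHom) (IsLocalRing.maximalIdeal B'.carrier) e')
    (g : A' ⟶ B') (hg : Function.Surjective g) (hgq : g ≫ q = p)
    (c : κ → ι → k) (hc : ∀ j, g (e j) = ∑ l, algebraMap k B'.carrier (c l j) * e' l)
    {cl : ι → Coh.HH Z (normalSheaf i) 1} (h : D.IsClassTuple e cl) :
    LiftData.IsClassTuple (⟨D.idx, D.U, D.cover, fun j => (D.L j).push g hg hgq⟩ : LiftData i q F) e'
      (fun l => ∑ j, c l j • cl j) := by
  obtain ⟨d, hd, hcl⟩ := h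
  choose d' hd' using fun a b => exists_locDiff hq he' ((D.L a).push g hg hgq) ((D.L b).push g hg hgq)
  refine ⟨d', hd', fun l => ?_⟩
  have heq : (fun a b => (secFam i ((D.U a).1 ⊓ (D.U b).1)).symm (d' a b l)) =
      ∑ j, (fun a b => resO Z (le_top : i ⁻¹ᵁ ((D.U a).1 ⊓ (D.U b).1) ≤ ⊤) (Serre71.globalA k Z (c l j)) •
        (secFam i ((D.U a).1 ⊓ (D.U b).1)).symm (d a b j)) := by
    funext a b
    rw [Finset.sum_apply, Finset.sum_apply, AddEquiv.symm_apply_eq, map_sum]
    refine HomFam.ext (funext fun V => funext fun hV => LinearMap.ext fun y => ?_)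
    have hsum : ∀ (s : Finset ι) (G : ι → HomFam i.ker ((D.U a).1 ⊓ (D.U b).1)),
        (∑ j ∈ s, G j).map V hV y = ∑ j ∈ s, (G j).map V hV y := fun s G => by
      classical
      induction s using Finset.induction with
      | empty => simp
      | insert m s hm ih => simp [Finset.sum_insert hm, ih]
    rw [hsum]
    simp only [secFam_smul i x hx, AddEquiv.apply_symm_apply]
    have hpush : ∀ (j : D.idx) (hj : V.1 ≤ (D.U j).1),
        (((D.L j).restrict hj).ideal.map (gmap x g V)) ≤ (((D.L j).push g hg hgq).restrict hj).ideal := fun j hj => by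
      show (((D.L j).ideal.map _).map _) ≤ (((D.L j).ideal.map _).map _)
      rw [Ideal.map_map, Ideal.map_map, show (gmap x g V).comp (res x A' hj) = (res x B' hj).comp (gmap x g (D.U j)) from
        RingHom.ext (res_gmap x g hj)]
    have h := (hd a b V hV).map (C' := sects x B' V) (e' := e') (κ := κ) he' (isRed x B' V)
      (((D.L b).push g hg hgq).restrict (hV.trans inf_le_right)).lift g.toAlgHom.toRingHom
      (gmap x g V) (RingHom.id Γ(X, V.1)) (gmap_algebraMap x g V) (red_gmap x g V)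
      (fun l j => algebraMap k B'.carrier (c l j)) hc (isRed x A' V) ((D.L a).restrict (hV.trans inf_le_left)).lift
      (hpush a _) (hpush b _) le_rfl (hd' a b V hV) y l
    refine (h : (d' a b l).map V hV y = _).trans (Finset.sum_congr rfl fun j _ => ?_)
    rw [baseMap_smul_eq]
    congr 1
    obtain ⟨z, hz⟩ := Ideal.Quotient.mk_surjective ((d a b j).map V hV y)
    show Ideal.quotientMap _ _ _ ((d a b j).map V hV y) = _
    rw [← hz]
    rfl
  rw [heq]
  exact IsClass.sum _ fun j => (hcl j).smul (c l j)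

end LiftData

/-- Kernel coordinates as elements of the kernel. -/
def kerVec {p : A' ⟶ A} {ι : Type u} [Fintype ι] {e : ι → A'.carrier}
    (he : LiftAlg.Small (RingHom.ker p.toAlgHom) (IsLocalRing.maximalIdeal A'.carrier) e) (c : ι) :
    ↥(RingHom.ker p.toAlgHom) :=
  ⟨e c, he.span.le (Ideal.subset_span ⟨c, rfl⟩)⟩

theorem exists_coeff {p : A' ⟶ A} {ι : Type u} [Fintype ι] {e : ι → A'.carrier}
    (he : LiftAlg.Small (RingHom.ker p.toAlgHom) (IsLocalRing.maximalIdeal A'.carrier) e)
    (j : ↥(RingHom.ker p.toAlgHom)) :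
    ∃ c : ι → k, (j : A'.carrier) = ∑ l, algebraMap k A'.carrier (c l) * e l := by
  obtain ⟨c, hc⟩ := (Submodule.mem_span_range_iff_exists_fun A'.carrier).1
    (show (j : A'.carrier) ∈ Submodule.span A'.carrier (Set.range e) from he.span.ge j.2)
  refine ⟨fun l => A'.res (c l), hc.symm.trans (Finset.sum_congr rfl fun l _ => ?_)⟩
  rw [smul_eq_mul, ← sub_eq_zero, ← sub_mul]
  have := Ideal.mul_mem_mul (art_sub_mem A' (c l)) (kerVec he l).2
  rwa [he.mul, Ideal.mem_bot] at this

theorem sum_tmul_eq_zero_iff {p : A' ⟶ A} {ι : Type u} [Fintype ι] {e : ι → A'.carrier}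
    (he : LiftAlg.Small (RingHom.ker p.toAlgHom) (IsLocalRing.maximalIdeal A'.carrier) e)
    (hli : ∀ c : ι → k, ∑ l, c l • e l = 0 → c = 0) {M : Type u} [AddCommGroup M] [Module k M] (m : ι → M) :
    ∑ c, m c ⊗ₜ[k] kerVec he c = 0 ↔ m = 0 := by
  classical
  refine ⟨fun h => ?_, fun h => by simp [h]⟩
  have hindep : LinearIndependent k (kerVec he) := Fintype.linearIndependent_iff.2 fun c hc l => congrFun (hli c (by
    have := congrArg (Subtype.val : ↥(RingHom.ker p.toAlgHom) → A'.carrier) hc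
    simpa [kerVec] using this)) l
  have hspan : ⊤ ≤ Submodule.span k (Set.range (kerVec he)) := fun j _ => by
    obtain ⟨c, hc⟩ := exists_coeff he j
    refine (Submodule.mem_span_range_iff_exists_fun k).2 ⟨c, Subtype.ext ?_⟩
    rw [hc, Submodule.coe_sum]
    exact Finset.sum_congr rfl fun l _ => (Algebra.smul_def _ _)
  let b := Module.Basis.mk hindep hspan
  have h2 := congrArg (TensorProduct.equivFinsuppOfBasisRight (M := M) b) h
  funext l
  have h3 := congrArg (fun f : ι →₀ M => f l) h2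
  simp only [map_sum, map_zero, Finsupp.finsetSum_apply, Finsupp.coe_zero, Pi.zero_apply] at h3
  rw [Finset.sum_eq_single l] at h3
  · simpa [show kerVec he l = b l from (Module.Basis.mk_apply hindep hspan l).symm] using h3
  · intro c _ hc
    simp [show kerVec he c = b c from (Module.Basis.mk_apply hindep hspan c).symm, Finsupp.single_eq_of_ne hc.symm]
  · simp

variable (hloc : LocLiftable i.ker x) (hx : Z ↘ Spec (CommRingCat.of k) = i ≫ x)

include hloc in
theorem exists_liftData {p : A' ⟶ A} (hp : IsSemismallExt p) (F : Fam i.ker x A) : Nonempty (LiftData i p F) := by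
  choose U hU L using hloc p hp F
  exact ⟨⟨X, U, fun q => ⟨q, hU q⟩, fun q => (L q).some⟩⟩

/-- The obstruction element is computed from any lift data and any coordinates. -/
def IsObsValue {p : A' ⟶ A} (u : (localHilb X x i.ker).obj A)
    (o : Coh.HH Z (normalSheaf i) 1 ⊗[k] ↥(RingHom.ker p.toAlgHom)) : Prop :=
  ∃ (ι : Type u) (_ : Fintype ι) (e : ι → A'.carrier)
    (he : LiftAlg.Small (RingHom.ker p.toAlgHom) (IsLocalRing.maximalIdeal A'.carrier) e)
    (D : LiftData i p (famEquiv A u)) (cl : ι → Coh.HH Z (normalSheaf i) 1),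
    (∀ c : ι → k, ∑ l, c l • e l = 0 → c = 0) ∧ D.IsClassTuple e cl ∧ o = ∑ c, cl c ⊗ₜ[k] kerVec he c

include hloc in
theorem exists_isObsValue {p : A' ⟶ A} (hp : IsSemismallExt p) (u : (localHilb X x i.ker).obj A) :
    ∃ o, IsObsValue (p := p) u o := by
  obtain ⟨ι, hι, e, he, hli⟩ := exists_coords p hp
  obtain ⟨D⟩ := exists_liftData hloc hp (famEquiv A u)
  obtain ⟨cl, hcl⟩ := D.exists_isClassTuple hp.1 he
  exact ⟨_, ι, hι, e, he, D, cl, hli, hcl, rfl⟩

include hloc hx in
theorem IsObsValue.map {p : A' ⟶ A} {q : B' ⟶ A} (hp : Function.Surjective p) (hq : Function.Surjective q)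
    (g : A' ⟶ B') (hg : Function.Surjective g) (hgq : g ≫ q = p)
    (T : ↥(RingHom.ker p.toAlgHom) →ₗ[k] ↥(RingHom.ker q.toAlgHom))
    (hT : ∀ j, (T j : B'.carrier) = g j)
    {u : (localHilb X x i.ker).obj A} {o : Coh.HH Z (normalSheaf i) 1 ⊗[k] ↥(RingHom.ker p.toAlgHom)}
    {o' : Coh.HH Z (normalSheaf i) 1 ⊗[k] ↥(RingHom.ker q.toAlgHom)}
    (ho : IsObsValue u o) (ho' : IsObsValue u o') : o' = LinearMap.lTensor _ T o := by
  obtain ⟨ι, _, e, he, D, cl, -, hcl, rfl⟩ := ho
  obtain ⟨κ, _, e', he', D', cl', -, hcl', rfl⟩ := ho'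
  choose c hc using fun j => exists_coeff he' (T (kerVec he j))
  have hc' : ∀ j, g (e j) = ∑ l, algebraMap k B'.carrier (c j l) * e' l := fun j => (hT _).symm.trans (hc j)
  have hTv : ∀ j, T (kerVec he j) = ∑ l, c j l • kerVec he' l := fun j => Subtype.ext (by
    rw [hc j, Submodule.coe_sum]
    exact Finset.sum_congr rfl fun l _ => (Algebra.smul_def _ _).symm)
  have hcl'' := D.isClassTuple_push hp he hx hq he' g hg hgq (fun l j => c j l) hc' hcl
  obtain rfl := D'.isClassTuple_eq hq he' _ hcl' hcl''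
  simp only [map_sum, LinearMap.lTensor_tmul, hTv, TensorProduct.sum_tmul, TensorProduct.tmul_sum,
    TensorProduct.smul_tmul]
  exact Finset.sum_comm

include hx in
theorem isObsValue_eq_zero_iff {p : A' ⟶ A} (hp : Function.Surjective p) {u : (localHilb X x i.ker).obj A}
    {o : Coh.HH Z (normalSheaf i) 1 ⊗[k] ↥(RingHom.ker p.toAlgHom)} (ho : IsObsValue u o) :
    o = 0 ↔ ∃ u' : (localHilb X x i.ker).obj A', (localHilb X x i.ker).map p u' = u := by
  obtain ⟨ι, _, e, he, D, cl, hli, hcl, rfl⟩ := ho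
  rw [sum_tmul_eq_zero_iff he hli]
  constructor
  · intro h0
    obtain ⟨d, hd, hcls⟩ := hcl
    choose ε hε using fun c => ((hcls c).eq_zero_iff D.coverZ).1 (congrFun h0 c)
    refine exists_lift_of_split hp he u D.U D.cover D.L d hd (fun j c => - secFam i (D.U j).1 (ε c j))
      fun j l c => ?_
    have h := (AddEquiv.symm_apply_eq _).1 (hε c j l)
    refine h.trans ?_
    refine Eq.trans (map_sub (secFam i ((D.U j).1 ⊓ (D.U l).1)) _ _) ?_
    refine Eq.trans (congrArg₂ (· - ·) (secFam_res i (inf_le_right : (D.U j).1 ⊓ (D.U l).1 ≤ (D.U l).1) (ε c l))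
      (secFam_res i (inf_le_left : (D.U j).1 ⊓ (D.U l).1 ≤ (D.U j).1) (ε c j))) ?_
    refine HomFam.ext (funext fun V => funext fun hV => ?_)
    simp only [HomFam.mono, sub_eq_add_neg, HomFam.add_map, HomFam.neg_map]
    abel
  · rintro ⟨u', rfl⟩
    let F' := famEquiv A' u'
    let D' : LiftData i p (famEquiv A ((localHilb X x i.ker).map p u')) :=
      ⟨X.affineOpens, id, fun q => by
        obtain ⟨_, ⟨V, hV, rfl⟩, hq, -⟩ :=
          X.isBasis_affineOpens.exists_subset_of_mem_open (Set.mem_univ q) isOpen_univ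
        exact ⟨⟨V, hV⟩, hq⟩,
        fun U => ⟨F'.ideal U, F'.lift U, (famEquiv_map p u' U).symm⟩⟩
    refine D.isClassTuple_eq hp he D' hcl ⟨fun _ _ => 0, fun a b V hV => ?_, fun c => ?_⟩
    · have e0 : (tupleMap (0 : ι → HomFam i.ker (a.1 ⊓ b.1)) V hV : i.ker.ideal V → ι → _) = 0 := rfl
      rw [show ((D'.L a).restrict (hV.trans inf_le_left)).ideal = ((D'.L b).restrict (hV.trans inf_le_right)).ideal from
        (F'.compat _).trans (F'.compat _).symm]
      show LiftAlg.IsDiff _ _ (tupleMap (0 : ι → HomFam i.ker (a.1 ⊓ b.1)) V hV : i.ker.ideal V → ι → _) _ _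
      rw [e0]
      exact LiftAlg.IsDiff.self he
    · convert IsClass.zero (N := normalSheaf i) (W := D'.W) (k := k) using 2
      · funext b
        exact map_zero _
      · rfl

include hloc hx in
/-- The obstruction theory. -/
theorem hasObsTheory : HasObsTheory (localHilb X x i.ker) (Coh.HH Z (normalSheaf i) 1) := by
  choose o ho using fun {C' C : Art k k} (p : C' ⟶ C) (hp : IsSemismallExt p) (u : (localHilb X x i.ker).obj C) =>
    exists_isObsValue (i := i) hloc hp u
  refine ⟨⟨fun p hp u => o p hp u, fun p hp u => isObsValue_eq_zero_iff hx hp.1 (ho p hp u),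
    fun {C' C} p hp K hK hKJ hq u => ?_⟩⟩
  exact (ho p hp u).map hloc hx hp.1 hq.1 (quotMk C' K hK) Ideal.Quotient.mk_surjective
    (quotMk_quotFactor hK p hKJ) _ (fun j => rfl) (ho _ hq u)

end Groth.Agent.Hilb85
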