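import Groth.Agent.Hilb85.ObsVanish
import Groth.Agent.Deform85.HBLiftApp
import Groth.Agent.EGA4H10.NormalFlat
import Groth.Agent.S11460

/-!
Local lifts for Cohen–Macaulay subschemes of codimension two in a smooth scheme: deformations of a
determinantal ideal are determinantal.
-/

set_option autoImplicit false
set_option linter.style.haveILetI false
set_option backward.isDefEq.respectTransparency false
universe u

open CategoryTheory CategoryTheory.Limits AlgebraicGeometry TopologicalSpace Opposite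
open ArtFun ArtFun.Art

noncomputable section

namespace Groth.Agent.Hilb85

open Deform85

variable {k : Type u} [Field k] {X : Scheme.{u}} {x : X ⟶ specPt k} {I₀ : X.IdealSheafData}

theorem flat_quotient_sects {A : Art k k} {U : X.affineOpens} {r : ℕ}
    (φ₀ : Matrix (Fin (r + 1)) (Fin r) Γ(X, U.1)) (hex : HB.ExactMod φ₀ (HB.minors φ₀) ⊥)
    (φ : Matrix (Fin (r + 1)) (Fin r) (sects x A U)) (hφ : φ.map (red x A U) = φ₀) :
    HB.ExactMod φ (HB.minors φ) ((IsLocalRing.maximalIdeal A.carrier).map (algebraMap A.carrier (sects x A U))) := by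
  have h := HB.exactMod_of_quotient (red x A U) (isRed x A U).surjective hφ hex
  rwa [← RingHom.ker_eq_comap_bot, (isRed x A U).ker] at h

/-- A determinantal chart of codimension two admits lifts. -/
theorem exists_locLift_of_minors {U : X.affineOpens} [IsNoetherianRing Γ(X, U.1)]
    (hnorm : EGA4.IsNormalRing Γ(X, U.1)) {r : ℕ} (φ₀ : Matrix (Fin (r + 1)) (Fin r) Γ(X, U.1))
    (hI : Ideal.span (Set.range (HB.minors φ₀)) = I₀.ideal U) (hinj : Function.Injective φ₀.mulVecLin)
    (hexact : LinearMap.range φ₀.mulVecLin = LinearMap.ker (HB.lc (HB.minors φ₀)))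
    (hcod : ∀ P : Ideal Γ(X, U.1), P.IsPrime → I₀.ideal U ≤ P → (2 : ℕ∞) ≤ P.height)
    {A' A : Art k k} (p : A' ⟶ A) (hp : IsSemismallExt p) (F : Fam I₀ x A) : Nonempty (LocLift p F U) := by
  let S := sects x A U
  let m := IsLocalRing.maximalIdeal A.carrier
  let M : Ideal S := m.map (algebraMap A.carrier S)
  let e : S ⧸ M ≃+* Γ(X, U.1) :=
    (Ideal.quotEquivOfEq (isRed x A U).ker.symm).trans (RingHom.quotientKerEquivOfSurjective (isRed x A U).surjective)
  have he : e.toRingHom.comp (Ideal.Quotient.mk M) = red x A U := RingHom.ext fun _ => rfl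
  haveI : IsNoetherianRing (S ⧸ M) := isNoetherianRing_of_ringEquiv _ e.symm
  haveI : Module.Flat A.carrier S := flat_sects' A U
  haveI := (F.lift U).flat
  have hex₀ := HB.exactMod_bot hinj hexact
  have hIm : (F.ideal U).map (Ideal.Quotient.mk M) = Ideal.span (Set.range (HB.minors (φ₀.map e.symm.toRingHom))) := by
    rw [show HB.minors (φ₀.map e.symm.toRingHom) = e.symm.toRingHom ∘ HB.minors φ₀ from
      funext fun i => (HB.map_minors e.symm.toRingHom φ₀ i).symm, Set.range_comp, ← Ideal.map_span, hI,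
      ← (F.lift U).map, ← he, ← Ideal.map_map, Ideal.map_map (f := e.toRingHom),
      show e.symm.toRingHom.comp e.toRingHom = RingHom.id _ from e.symm_toRingHom_comp_toRingHom, Ideal.map_id]
  obtain ⟨φ, hφ, hspan, -, -⟩ := HB.exists_lift (C := A.carrier)
    (EGA4H10.isNormalRing_of_ringEquiv e.symm hnorm) m le_rfl (F.ideal U) (φ₀.map e.symm.toRingHom) hIm
    (fun φ hφ => flat_quotient_sects φ₀ hex₀ φ (by
      rw [← he, RingHom.coe_comp, ← Matrix.map_map, hφ]
      ext a b
      simp))
    (fun P hP hIP => by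
      have hMP : M ≤ P := (HB.map_le_nilradical le_rfl).trans (nilradical_le_prime P)
      rw [← HB.height_map_mk_eq (HB.map_le_nilradical (le_refl m)) P]
      haveI : (P.map (Ideal.Quotient.mk M)).IsPrime :=
        Ideal.map_isPrime_of_surjective Ideal.Quotient.mk_surjective (by rw [Ideal.mk_ker]; exact hMP)
      rw [← e.height_map (P.map (Ideal.Quotient.mk M))]
      refine hcod _ (Ideal.map_isPrime_of_equiv e) ?_
      rw [← (F.lift U).map, ← he, ← Ideal.map_map]
      exact Ideal.map_mono (Ideal.map_mono hIP))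
  have hφ₀ : φ.map (red x A U) = φ₀ := by
    rw [← he, RingHom.coe_comp, ← Matrix.map_map, hφ]
    ext a b
    simp
  choose ψ hψ using fun a b => surjective_gmap x p hp.1 U (φ a b)
  let φ' : Matrix (Fin (r + 1)) (Fin r) (sects x A' U) := Matrix.of ψ
  have hφ' : φ'.map (gmap x p U) = φ := Matrix.ext hψ
  have hred : φ'.map (red x A' U) = φ₀ := by
    rw [← hφ₀, ← hφ', Matrix.map_map]
    congr 1
    exact funext fun s => (red_gmap x p U s).symm
  haveI : Module.Flat A'.carrier (sects x A' U) := flat_sects' A' U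
  obtain ⟨-, -, hflat⟩ := HB.exact_of_exactMod (C := A'.carrier) (HB.lc_minors_mulVec φ')
    (flat_quotient_sects φ₀ hex₀ φ' hred)
  refine ⟨⟨Ideal.span (Set.range (HB.minors φ')), ⟨hflat, ?_⟩, ?_⟩⟩
  · rw [Ideal.map_span, ← Set.range_comp,
      show red x A' U ∘ HB.minors φ' = HB.minors φ₀ from funext fun i => by rw [← hred]; exact HB.map_minors _ φ' i,
      hI]
  · rw [Ideal.map_span, ← Set.range_comp,
      show gmap x p U ∘ HB.minors φ' = HB.minors φ from funext fun i => by rw [← hφ']; exact HB.map_minors _ φ' i,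
      hspan]

theorem locLiftable_of_cmTwo [Smooth x]
    (hCM : ∀ y : I₀.subscheme, LocCoh.IsCohenMacaulayLocalRing (I₀.subscheme.presheaf.stalk y))
    (hcodim : ∀ y : I₀.subscheme, ringKrullDim (I₀.subscheme.presheaf.stalk y) + 2 =
      ringKrullDim (X.presheaf.stalk (I₀.subschemeι.base y))) : LocLiftable I₀ x := by
  intro A' A p hp F q
  by_cases hq : q ∈ I₀.support
  · obtain ⟨y, rfl⟩ : q ∈ Set.range I₀.subschemeι := by rw [I₀.range_subschemeι]; exact hq
    obtain ⟨U, hU, r, φ₀, h1, h2, h3⟩ := Groth.Agent.S11460.result k X I₀.subscheme x I₀.subschemeι hCM hcodim y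
    rw [I₀.ker_subschemeι] at h1
    letI : Algebra k Γ(X, U.1) := (Groth.Agent.Hilb85.baseMap (A' := CommRingCat.of k) x U.1).toAlgebra
    have hsm : (Groth.Agent.Hilb85.baseMap (A' := CommRingCat.of k) x U.1).Smooth :=
      RingHom.Smooth.comp (RingHom.Smooth.of_bijective
        (ConcreteCategory.bijective_of_isIso (Scheme.ΓSpecIso (CommRingCat.of k)).inv))
        (HasRingHomProperty.appLE (P := @Smooth) x inferInstance ⟨⊤, isAffineOpen_top _⟩ U le_top)
    haveI : Algebra.Smooth k Γ(X, U.1) := hsm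
    haveI : IsNoetherianRing Γ(X, U.1) := Algebra.FiniteType.isNoetherianRing k _
    haveI := Groth.Agent.FlatMor67.isRegularRing_of_smooth k Γ(X, U.1)
    refine ⟨U, hU, exists_locLift_of_minors (FlatMor67.isNormalRing_of_regular _) φ₀ h1 h2 h3
      (fun P hP hIP => ?_) p hp F⟩
    let w : Spec Γ(X, U.1) := ⟨P, hP⟩
    have hwU : U.2.fromSpec w ∈ U.1 := U.2.range_fromSpec.le ⟨w, rfl⟩
    have hmem : U.2.fromSpec w ∈ X.zeroLocus (U := U.1) (I₀.ideal U) ∩ U.1 := by
      rw [← U.2.fromSpec_image_zeroLocus]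
      exact ⟨w, hIP, rfl⟩
    have hsupp : U.2.fromSpec w ∈ I₀.support := I₀.zeroLocus_inter_subset_supportSet U hmem
    obtain ⟨z, hz⟩ : U.2.fromSpec w ∈ Set.range I₀.subschemeι := by rw [I₀.range_subschemeι]; exact hsupp
    have hd : (2 : WithBot ℕ∞) ≤ ringKrullDim (X.presheaf.stalk (U.2.fromSpec w)) := by
      rw [← hz, ← hcodim z]
      exact le_add_of_nonneg_left ringKrullDim_nonneg_of_nontrivial
    letI := (X.presheaf.germ _ (U.2.fromSpec w) hwU).hom.toAlgebra
    haveI := U.2.isLocalization_stalk' w hwU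
    rw [IsLocalization.AtPrime.ringKrullDim_eq_height P (X.presheaf.stalk (U.2.fromSpec w))] at hd
    exact WithBot.coe_le_coe.1 hd
  · obtain ⟨_, ⟨V, hV, rfl⟩, hqV, -⟩ := X.isBasis_affineOpens.exists_subset_of_mem_open (Set.mem_univ q) isOpen_univ
    have h1 : q ∉ X.zeroLocus (U := V) (I₀.ideal ⟨V, hV⟩) := fun hz =>
      hq (I₀.zeroLocus_inter_subset_supportSet ⟨V, hV⟩ ⟨hz, hqV⟩)
    rw [Scheme.mem_zeroLocus_iff] at h1
    push Not at h1
    obtain ⟨s, hs, hqs⟩ := h1
    let W := X.affineBasicOpen (U := ⟨V, hV⟩) s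
    have htop : I₀.ideal W = ⊤ := by
      have hu : IsUnit (resHom (X.affineBasicOpen_le (V := ⟨V, hV⟩) s) s) := RingedSpace.isUnit_res_basicOpen _ s
      refine Ideal.eq_top_of_isUnit_mem _ ?_ hu
      rw [← I₀.map_ideal (X.affineBasicOpen_le (V := ⟨V, hV⟩) s)]
      exact Ideal.mem_map_of_mem _ hs
    have hK : (F.ideal W) = ⊤ := by
      haveI := (F.lift W)
      refine top_le_iff.1 (LiftAlg.IsLift.le_of_map_le (maximal_isNilpotent A) (isRed x A W)
        (I₀ := I₀.ideal W) (r := red x A W) (I := (⊤ : Ideal (sects x A W))) ⟨inferInstance, by rw [Ideal.map_top, htop]⟩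
        (K := F.ideal W) le_top (by rw [(F.lift W).map]))
    exact ⟨W, hqs, ⟨⟨⊤, ⟨inferInstance, by rw [Ideal.map_top, htop]⟩, by rw [Ideal.map_top, hK]⟩⟩⟩

end Groth.Agent.Hilb85
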