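import Groth.Agent.FlatCrit65.Basic
import Mathlib.RingTheory.Flat.EquationalCriterion
import Mathlib.RingTheory.Ideal.Quotient.Operations

/-!
Flat lifts of an ideal along a small extension `A' → A'/J`, `m J = 0`, in coordinates: two lifts of
the same ideal differ by a unique linear map `I₀ → (B₀/I₀)^ι`, and every such map occurs once.
-/

set_option autoImplicit false
set_option linter.style.haveILetI false
universe u

open TensorProduct

namespace Groth.Agent.Hilb85.LiftAlg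

variable {A' B' B₀ ι : Type u} [CommRing A'] [CommRing B'] [CommRing B₀] [Algebra A' B'] [Fintype ι]

/-- `e` is a basis over `A'/m` of the ideal `J`, killed by `m`. -/
structure Small (J m : Ideal A') (e : ι → A') : Prop where
  le : J ≤ m
  mul : m * J = ⊥
  span : Ideal.span (Set.range e) = J
  indep : ∀ a : ι → A', ∑ i, a i * e i = 0 → ∀ i, a i ∈ m

variable {J m : Ideal A'} {e : ι → A'} {r : B' →+* B₀} {I₀ : Ideal B₀}

/-- `Σ e_i b_i`. -/
def comb (e : ι → A') (b : ι → B') : B' := ∑ i, e i • b i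

theorem comb_add (b c : ι → B') : comb e (b + c) = comb e b + comb e c := by
  simp [comb, smul_add, Finset.sum_add_distrib]

theorem comb_sub (b c : ι → B') : comb e (b - c) = comb e b - comb e c := by
  simp [comb, smul_sub, Finset.sum_sub_distrib]

theorem mul_comb (a : B') (b : ι → B') : a * comb e b = comb e (a • b) := by
  simp [comb, Finset.mul_sum, mul_smul_comm]

theorem Small.exists_comb (h : Small J m e) {x : B'} (hx : x ∈ J.map (algebraMap A' B')) :
    ∃ b, x = comb e b := by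
  rw [← h.span, Ideal.map_span, ← Set.range_comp] at hx
  obtain ⟨c, hc⟩ := (Submodule.mem_span_range_iff_exists_fun B').1 hx
  exact ⟨c, by rw [← hc]; simp [comb, Algebra.smul_def, mul_comm]⟩

theorem Small.comb_mem_map (h : Small J m e) (b : ι → B') : comb e b ∈ J.map (algebraMap A' B') := by
  refine Ideal.sum_mem _ fun i _ => ?_
  rw [Algebra.smul_def]
  exact Ideal.mul_mem_right _ _ (Ideal.mem_map_of_mem _ (h.span ▸ Ideal.subset_span ⟨i, rfl⟩))

/-- `r` is the reduction modulo `m`. -/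
structure IsRed (m : Ideal A') (r : B' →+* B₀) : Prop where
  surjective : Function.Surjective r
  ker : RingHom.ker r = m.map (algebraMap A' B')

theorem Small.smul_eq_zero (h : Small J m e) (i : ι) {x : B'} (hx : x ∈ m.map (algebraMap A' B')) :
    e i • x = 0 := by
  induction hx using Submodule.span_induction with
  | mem z hz =>
    obtain ⟨a, ha, rfl⟩ := hz
    have : a * e i ∈ m * J := Ideal.mul_mem_mul ha (h.span ▸ Ideal.subset_span ⟨i, rfl⟩)
    rw [h.mul, Ideal.mem_bot] at this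
    rw [Algebra.smul_def, ← map_mul, mul_comm, this, map_zero]
  | zero => exact smul_zero _
  | add a b _ _ ha hb => rw [smul_add, ha, hb, add_zero]
  | smul a b _ hb => rw [smul_eq_mul, ← mul_smul_comm, hb, mul_zero]

/-- Elements of `m B'` are killed in `(B'/I) ⊗ J`. -/
theorem Small.tmul_eq_zero {e : ι → A'} (h : Small J m e) (I : Ideal B') (j : J) {w : B'}
    (hw : w ∈ m.map (algebraMap A' B')) : Ideal.Quotient.mk I w ⊗ₜ[A'] j = 0 := by
  induction hw using Submodule.span_induction with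
  | zero => simp
  | add a b _ _ ha hb => rw [map_add, add_tmul, ha, hb, add_zero]
  | mem w hw =>
    obtain ⟨a, ha, rfl⟩ := hw
    rw [show Ideal.Quotient.mk I (algebraMap A' B' a) = a • (1 : B' ⧸ I) from
      by rw [← Algebra.algebraMap_eq_smul_one]; rfl, smul_tmul]
    rw [show a • j = 0 from Subtype.ext (by
      have := Ideal.mul_mem_mul ha j.2
      rwa [h.mul, Ideal.mem_bot] at this), tmul_zero]
  | smul a w _ hw =>
    have := congrArg ((LinearMap.mulLeft A' (Ideal.Quotient.mk I a)).rTensor J) hw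
    simpa using this

variable (J) in
/-- `(B'/I)/J(B'/I)` is `B'/(I + J B')`. -/
theorem nonempty_quotSMul (I : Ideal B') :
    Nonempty (((B' ⧸ I) ⧸ J • (⊤ : Submodule A' (B' ⧸ I))) ≃ₗ[A'] B' ⧸ (I ⊔ J.map (algebraMap A' B'))) := by
  let K := I ⊔ J.map (algebraMap A' B')
  let f : (B' ⧸ I) →ₗ[A'] B' ⧸ K := (Ideal.Quotient.factorₐ A' (show I ≤ K from le_sup_left)).toLinearMap
  have hfs : Function.Surjective f := Ideal.Quotient.factor_surjective (show I ≤ K from le_sup_left)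
  have hker : LinearMap.ker f = J • (⊤ : Submodule A' (B' ⧸ I)) := by
    rw [Ideal.smul_top_eq_map]
    ext q
    obtain ⟨b, rfl⟩ := Ideal.Quotient.mk_surjective q
    show Ideal.Quotient.mk K b = 0 ↔ Ideal.Quotient.mk I b ∈ J.map (algebraMap A' (B' ⧸ I))
    rw [Ideal.Quotient.eq_zero_iff_mem, show algebraMap A' (B' ⧸ I) =
      (Ideal.Quotient.mk I).comp (algebraMap A' B') from rfl, ← Ideal.map_map]
    show b ∈ K ↔ b ∈ ((J.map (algebraMap A' B')).map (Ideal.Quotient.mk I)).comap (Ideal.Quotient.mk I)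
    rw [Ideal.comap_map_of_surjective _ Ideal.Quotient.mk_surjective, ← RingHom.ker_eq_comap_bot,
      Ideal.mk_ker, sup_comm]
  exact ⟨(Submodule.quotEquivOfEq _ _ hker.symm).trans (f.quotKerEquivOfSurjective hfs)⟩

/-- A flat lift of `I₀`. -/
structure IsLift (r : B' →+* B₀) (I₀ : Ideal B₀) (A' : Type u) [CommRing A'] [Algebra A' B']
    (I' : Ideal B') : Prop where
  flat : Module.Flat A' (B' ⧸ I')
  map : I'.map r = I₀

theorem IsLift.mem_map {I' : Ideal B'} (hI : IsLift r I₀ A' I') {x : B'} (hx : x ∈ I') : r x ∈ I₀ :=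
  hI.map ▸ Ideal.mem_map_of_mem r hx

theorem IsLift.exists_preimage {I' : Ideal B'} (hI : IsLift r I₀ A' I') (hr : IsRed m r) {y : B₀}
    (hy : y ∈ I₀) : ∃ x ∈ I', r x = y :=
  (Ideal.mem_map_iff_of_surjective r hr.surjective).1 (hI.map.symm ▸ hy)

/-- A relation among the `e i` in a flat quotient has coefficients in `I₀`. -/
theorem IsLift.coeff_mem (h : Small J m e) (hr : IsRed m r) {I' : Ideal B'} (hI : IsLift r I₀ A' I')
    {b : ι → B'} (hb : comb e b ∈ I') (i : ι) : r (b i) ∈ I₀ := by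
  haveI := hI.flat
  have h0 : ∑ i, e i • Ideal.Quotient.mk I' (b i) = 0 := by
    rw [← Ideal.Quotient.eq_zero_iff_mem.2 hb, comb, map_sum]
    rfl
  obtain ⟨n, a, y, hy, ha⟩ := Module.Flat.isTrivialRelation_of_sum_smul_eq_zero h0
  choose y' hy' using fun j => Ideal.Quotient.mk_surjective (y j)
  have h1 : b i - ∑ j, a i j • y' j ∈ I' := by
    rw [← Ideal.Quotient.eq, map_sum]
    exact (hy i).trans (Finset.sum_congr rfl fun j _ => by rw [← hy']; rfl)
  have h2 : r (∑ j, a i j • y' j) = 0 := by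
    refine RingHom.mem_ker.1 (hr.ker ▸ Ideal.sum_mem _ fun j _ => ?_)
    rw [Algebra.smul_def]
    refine Ideal.mul_mem_right _ _ (Ideal.mem_map_of_mem _ (h.indep (fun i => a i j) ?_ i))
    simpa [mul_comm] using ha j
  have := hI.mem_map h1
  rwa [map_sub, h2, sub_zero] at this

theorem IsLift.smul_mem (h : Small J m e) (hr : IsRed m r) {I' : Ideal B'} (hI : IsLift r I₀ A' I')
    {b : B'} (hb : r b ∈ I₀) (i : ι) : e i • b ∈ I' := by
  obtain ⟨x, hx, hxb⟩ := hI.exists_preimage hr hb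
  have : e i • b = e i • x := by
    rw [← sub_eq_zero, ← smul_sub]
    exact h.smul_eq_zero i (hr.ker ▸ RingHom.mem_ker.2 (by rw [map_sub, hxb, sub_self]))
  rw [this, Algebra.smul_def]
  exact I'.mul_mem_left _ hx

theorem IsLift.comb_mem (h : Small J m e) (hr : IsRed m r) {I' : Ideal B'} (hI : IsLift r I₀ A' I')
    {b : ι → B'} (hb : ∀ i, r (b i) ∈ I₀) : comb e b ∈ I' :=
  Ideal.sum_mem _ fun i _ => hI.smul_mem h hr (hb i) i

/-- `I' ∩ m B' = m I'`. -/
theorem IsLift.mem_smul_of_mem_map {I' : Ideal B'} (hI : IsLift r I₀ A' I') {x : B'} (hx : x ∈ I')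
    (hxm : x ∈ m.map (algebraMap A' B')) :
    ∃ (n : ℕ) (a : Fin n → A') (z : Fin n → B'), (∀ l, a l ∈ m) ∧ (∀ l, z l ∈ I') ∧ x = ∑ l, a l • z l := by
  haveI := hI.flat
  rw [Ideal.map, Ideal.span, Submodule.mem_span_set'] at hxm
  obtain ⟨n, f, g, hfg⟩ := hxm
  choose a ha hag using fun l => (g l).2
  have hx' : x = ∑ l, a l • f l := by
    rw [← hfg]; simp [← hag, Algebra.smul_def, mul_comm]
  have h0 : ∑ l, a l • Ideal.Quotient.mk I' (f l) = 0 := by
    rw [← Ideal.Quotient.eq_zero_iff_mem.2 hx, hx', map_sum]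
    rfl
  obtain ⟨p, c, y, hy, hc⟩ := Module.Flat.isTrivialRelation_of_sum_smul_eq_zero h0
  choose y' hy' using fun j => Ideal.Quotient.mk_surjective (y j)
  refine ⟨n, a, fun l => f l - ∑ j, c l j • y' j, ha, fun l => ?_, ?_⟩
  · rw [← Ideal.Quotient.eq, map_sum]
    exact (hy l).trans (Finset.sum_congr rfl fun j _ => by rw [← hy']; rfl)
  · simp only [smul_sub, Finset.sum_sub_distrib, Finset.smul_sum, ← mul_smul]
    rw [Finset.sum_comm, ← hx']
    simp [← Finset.sum_smul, hc]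

/-- Two ideals agreeing modulo `J`. -/
def SameBase (J : Ideal A') (I' I'' : Ideal B') : Prop :=
  I' ⊔ J.map (algebraMap A' B') = I'' ⊔ J.map (algebraMap A' B')

theorem SameBase.exists_add (h : Small J m e) {I' I'' : Ideal B'} (hs : SameBase J I' I'') {x : B'}
    (hx : x ∈ I') : ∃ b, x + comb e b ∈ I'' := by
  obtain ⟨y, hy, z, hz, rfl⟩ := Submodule.mem_sup.1 ((hs ▸ Submodule.mem_sup_left hx :
    x ∈ I'' ⊔ J.map (algebraMap A' B')))
  obtain ⟨b, rfl⟩ := h.exists_comb hz
  exact ⟨-b, by simpa [comb] using hy⟩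

/-- `φ` is the difference `I'' - I'`. -/
def IsDiff (r : B' →+* B₀) (e : ι → A') (φ : I₀ → ι → B₀ ⧸ I₀) (I' I'' : Ideal B') : Prop :=
  ∀ x ∈ I', ∀ (hx : r x ∈ I₀), ∃ b, x + comb e b ∈ I'' ∧
    ∀ i, Ideal.Quotient.mk I₀ (r (b i)) = φ ⟨r x, hx⟩ i

variable {I' I'' I''' : Ideal B'} {φ ψ : I₀ → ι → B₀ ⧸ I₀}

/-- The coefficient of the difference is read off any witness. -/
theorem IsDiff.coeff_eq (h : Small J m e) (hr : IsRed m r) (hI'' : IsLift r I₀ A' I'')
    (hd : IsDiff r e φ I' I'') {x : B'} (hx : x ∈ I') (hx₀ : r x ∈ I₀) {b : ι → B'}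
    (hb : x + comb e b ∈ I'') (i : ι) : Ideal.Quotient.mk I₀ (r (b i)) = φ ⟨r x, hx₀⟩ i := by
  obtain ⟨c, hc, hφ⟩ := hd x hx hx₀
  rw [← hφ i, Ideal.Quotient.eq, ← map_sub]
  refine hI''.coeff_mem h hr (b := b - c) ?_ i
  have := I''.sub_mem hb hc
  rwa [add_sub_add_left_eq_sub, ← comb_sub] at this

theorem IsDiff.unique (h : Small J m e) (hr : IsRed m r) (hI' : IsLift r I₀ A' I')
    (hI'' : IsLift r I₀ A' I'') (hφ : IsDiff r e φ I' I'') (hψ : IsDiff r e ψ I' I'') : φ = ψ := by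
  funext y i
  obtain ⟨x, hx, hxy⟩ := hI'.exists_preimage hr y.2
  obtain ⟨b, hb, hbφ⟩ := hψ x hx (hxy ▸ y.2)
  rw [show y = ⟨r x, hxy ▸ y.2⟩ from Subtype.ext hxy.symm, ← hbφ i, hφ.coeff_eq h hr hI'' hx _ hb i]

theorem IsDiff.self (h : Small J m e) : IsDiff r e (I₀ := I₀) 0 I' I' := fun x hx _ =>
  ⟨0, by simpa [comb] using hx, fun i => by simp⟩

theorem IsDiff.trans (h : Small J m e) (hI' : IsLift r I₀ A' I') (hφ : IsDiff r e φ I' I'')
    (hψ : IsDiff r e ψ I'' I''') (hJ : J.map (algebraMap A' B') ≤ RingHom.ker r) :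
    IsDiff r e (φ + ψ) I' I''' := by
  intro x hx hx₀
  obtain ⟨b, hb, hbφ⟩ := hφ x hx hx₀
  have hrx : r (x + comb e b) = r x := by
    rw [map_add, RingHom.mem_ker.1 (hJ (h.comb_mem_map b)), add_zero]
  obtain ⟨c, hc, hcψ⟩ := hψ _ hb (hrx.symm ▸ hx₀)
  refine ⟨b + c, by rwa [comb_add, ← add_assoc], fun i => ?_⟩
  rw [Pi.add_apply, map_add, map_add, hbφ, hcψ, Pi.add_apply, Pi.add_apply]
  exact congrArg (fun z => φ ⟨r x, hx₀⟩ i + ψ z i) (Subtype.ext hrx)

theorem map_le_ker (h : Small J m e) (hr : IsRed m r) : J.map (algebraMap A' B') ≤ RingHom.ker r :=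
  hr.ker ▸ Ideal.map_mono h.le

theorem exists_isDiff (h : Small J m e) (hr : IsRed m r) (hI' : IsLift r I₀ A' I')
    (hI'' : IsLift r I₀ A' I'') (hs : SameBase J I' I'') :
    ∃ φ : I₀ →ₗ[B₀] (ι → B₀ ⧸ I₀), IsDiff r e φ I' I'' := by
  classical
  choose x hx hxy using fun y : I₀ => hI'.exists_preimage hr y.2
  choose b hb using fun y : I₀ => hs.exists_add h (hx y)
  -- any witness gives the chosen coefficient
  have key : ∀ (y : I₀) (x' : B') (b' : ι → B'), x' ∈ I' → r x' = y → x' + comb e b' ∈ I'' →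
      ∀ i, r (b' i) - r (b y i) ∈ I₀ := by
    intro y x' b' hx' hx'y hb' i
    obtain ⟨n, a, z, ha, hz, hxz⟩ := hI'.mem_smul_of_mem_map (m := m) (I'.sub_mem hx' (hx y))
      (hr.ker ▸ RingHom.mem_ker.2 (by rw [map_sub, hx'y, hxy, sub_self]))
    have hmem : x' - x y ∈ I'' := by
      rw [hxz]
      refine Ideal.sum_mem _ fun l _ => ?_
      obtain ⟨c, hc⟩ := hs.exists_add h (hz l)
      have h0 : a l • comb e c = 0 := by
        rw [comb, Finset.smul_sum]
        refine Finset.sum_eq_zero fun j _ => ?_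
        rw [smul_comm]
        refine h.smul_eq_zero j ?_
        rw [Algebra.smul_def]
        exact Ideal.mul_mem_right _ _ (Ideal.mem_map_of_mem _ (ha l))
      have h1 : a l • z l = a l • (z l + comb e c) := by rw [smul_add, h0, add_zero]
      rw [h1, Algebra.smul_def]
      exact I''.mul_mem_left _ hc
    rw [← map_sub]
    refine hI''.coeff_mem h hr (b := b' - b y) ?_ i
    have := I''.sub_mem (I''.sub_mem hb' (hb y)) hmem
    rw [comb_sub]
    convert this using 1
    abel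
  let φ : I₀ →ₗ[B₀] (ι → B₀ ⧸ I₀) :=
    { toFun := fun y i => Ideal.Quotient.mk I₀ (r (b y i))
      map_add' := fun y y' => by
        funext i
        rw [Pi.add_apply, ← map_add, ← map_add, eq_comm, Ideal.Quotient.eq]
        refine key (y + y') (x y + x y') (b y + b y') (I'.add_mem (hx y) (hx y'))
          (by rw [map_add, hxy, hxy]; rfl) ?_ i
        rw [comb_add, add_add_add_comm]
        exact I''.add_mem (hb y) (hb y')
      map_smul' := fun c y => by
        funext i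
        obtain ⟨c', rfl⟩ := hr.surjective c
        rw [RingHom.id_apply, Pi.smul_apply, Algebra.smul_def, Ideal.Quotient.algebraMap_eq,
          ← map_mul, ← map_mul, eq_comm, Ideal.Quotient.eq]
        refine key (r c' • y) (c' * x y) (c' • b y) (I'.mul_mem_left _ (hx y))
          (by rw [map_mul, hxy]; rfl) ?_ i
        rw [← mul_comb, ← mul_add]
        exact I''.mul_mem_left _ (hb y) }
  refine ⟨φ, fun x' hx' hx₀ => ?_⟩
  obtain ⟨b', hb'⟩ := hs.exists_add h hx'
  exact ⟨b', hb', fun i => Ideal.Quotient.eq.2 (key ⟨r x', hx₀⟩ x' b' hx' rfl hb' i)⟩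

theorem IsDiff.ext (h : Small J m e) (hr : IsRed m r) (hI'' : IsLift r I₀ A' I'')
    (hI''' : IsLift r I₀ A' I''') (hs : SameBase J I' I'') (hφ : IsDiff r e φ I' I'')
    (hψ : IsDiff r e φ I' I''') (hI' : IsLift r I₀ A' I') : I'' ≤ I''' := by
  intro y hy
  obtain ⟨b₀, hb₀⟩ := SameBase.exists_add h hs.symm hy
  have hx₀ : r (y + comb e b₀) ∈ I₀ := hI'.mem_map hb₀
  obtain ⟨c, hc, hcφ⟩ := hψ _ hb₀ hx₀
  have hb : (y + comb e b₀) + comb e (-b₀) ∈ I'' := by simpa [comb] using hy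
  have hd : ∀ i, r ((b₀ + c) i) ∈ I₀ := fun i => by
    have := hφ.coeff_eq h hr hI'' hb₀ hx₀ hb i
    rw [← hcφ i, Ideal.Quotient.eq, Pi.neg_apply, map_neg] at this
    have := I₀.neg_mem this
    simpa [add_comm] using this
  have := I'''.sub_mem hc (hI'''.comb_mem h hr hd)
  rw [comb_add] at this
  convert this using 1
  abel

/-- Every map is a difference from a given lift. -/
theorem exists_lift_isDiff (h : Small J m e) (hr : IsRed m r) (hI' : IsLift r I₀ A' I')
    (φ : I₀ →ₗ[B₀] (ι → B₀ ⧸ I₀)) :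
    ∃ I'' : Ideal B', IsLift r I₀ A' I'' ∧ SameBase J I' I'' ∧ IsDiff r e φ I' I'' := by
  classical
  let I'' : Ideal B' :=
    { carrier := {y | ∃ x, ∃ hx : x ∈ I', ∃ b, y = x + comb e b ∧
        ∀ i, Ideal.Quotient.mk I₀ (r (b i)) = φ ⟨r x, hI'.mem_map hx⟩ i}
      add_mem' := by
        rintro _ _ ⟨x, hx, b, rfl, hb⟩ ⟨x', hx', b', rfl, hb'⟩
        refine ⟨x + x', I'.add_mem hx hx', b + b', by rw [comb_add]; abel, fun i => ?_⟩
        rw [show (⟨r (x + x'), hI'.mem_map (I'.add_mem hx hx')⟩ : I₀) =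
          ⟨r x, hI'.mem_map hx⟩ + ⟨r x', hI'.mem_map hx'⟩ from Subtype.ext (map_add r x x'), map_add]
        simp [hb, hb']
      zero_mem' := ⟨0, I'.zero_mem, 0, by simp [comb], fun i => by
        rw [show (⟨r 0, hI'.mem_map I'.zero_mem⟩ : I₀) = 0 from Subtype.ext (map_zero r), map_zero]
        simp⟩
      smul_mem' := by
        rintro c _ ⟨x, hx, b, rfl, hb⟩
        refine ⟨c * x, I'.mul_mem_left c hx, c • b, by rw [smul_eq_mul, mul_add, mul_comb], fun i => ?_⟩
        rw [show (⟨r (c * x), hI'.mem_map (I'.mul_mem_left c hx)⟩ : I₀) =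
          r c • ⟨r x, hI'.mem_map hx⟩ from Subtype.ext (map_mul r c x), map_smul]
        simp only [Pi.smul_apply, smul_eq_mul, Algebra.smul_def, Ideal.Quotient.algebraMap_eq, map_mul]
        rw [hb i] }
  have hsurj : ∀ x ∈ I', ∃ b, x + comb e b ∈ I'' := fun x hx => by
    choose b hb using fun i => (Ideal.Quotient.mk_surjective.comp hr.surjective) (φ ⟨r x, hI'.mem_map hx⟩ i)
    exact ⟨b, x, hx, b, rfl, hb⟩
  have hdiff : IsDiff r e φ I' I'' := fun x hx hx₀ => by
    obtain ⟨b, hb⟩ : ∃ b : ι → B', ∀ i, Ideal.Quotient.mk I₀ (r (b i)) = φ ⟨r x, hx₀⟩ i :=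
      Classical.axiom_of_choice fun i => (Ideal.Quotient.mk_surjective.comp hr.surjective) (φ ⟨r x, hx₀⟩ i)
    exact ⟨b, ⟨x, hx, b, rfl, hb⟩, hb⟩
  have hJr := map_le_ker h hr
  have hrcomb : ∀ b : ι → B', r (comb e b) = 0 := fun b => RingHom.mem_ker.1 (hJr (h.comb_mem_map b))
  have hmap : I''.map r = I₀ := by
    refine le_antisymm (Ideal.map_le_iff_le_comap.2 ?_) ?_
    · rintro _ ⟨x, hx, b, rfl, -⟩
      simpa [hrcomb b] using hI'.mem_map hx
    · intro y hy
      obtain ⟨x, hx, rfl⟩ := hI'.exists_preimage hr hy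
      obtain ⟨b, hb⟩ := hsurj x hx
      have := Ideal.mem_map_of_mem r hb
      rwa [map_add, hrcomb, add_zero] at this
  have hsame : SameBase J I' I'' := by
    refine le_antisymm (sup_le ?_ le_sup_right) (sup_le ?_ le_sup_right)
    · intro x hx
      obtain ⟨b, hb⟩ := hsurj x hx
      have := Submodule.add_mem_sup hb (Ideal.neg_mem_iff (J.map (algebraMap A' B')) |>.2 (h.comb_mem_map b))
      simpa using this
    · rintro _ ⟨x, hx, b, rfl, -⟩
      exact Submodule.add_mem_sup hx (h.comb_mem_map b)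
  refine ⟨I'', ⟨?_, hmap⟩, hsame, hdiff⟩
  -- flatness
  haveI := hI'.flat
  have hJ2 : IsNilpotent J := ⟨2, le_antisymm (by
    rw [pow_two, Ideal.zero_eq_bot, ← h.mul]
    exact Ideal.mul_mono_left h.le) bot_le⟩
  refine FlatCrit65.flat_of_injective_of_isNilpotent hJ2 ?_ ?_
  · -- `J ⊗ M → M` is injective
    rw [← LinearMap.ker_eq_bot, LinearMap.ker_eq_bot']
    intro z hz
    have hz' : ∃ c : ι → B', z = ∑ i, (Ideal.Quotient.mk I'' (c i)) ⊗ₜ[A'] (⟨e i, h.span ▸ Ideal.subset_span ⟨i, rfl⟩⟩ : J) := by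
      clear hz
      induction z using TensorProduct.induction_on with
      | zero => exact ⟨0, by simp⟩
      | add z₁ z₂ h₁ h₂ =>
        obtain ⟨c₁, rfl⟩ := h₁
        obtain ⟨c₂, rfl⟩ := h₂
        exact ⟨c₁ + c₂, by simp [← Finset.sum_add_distrib, ← add_tmul]⟩
      | tmul q j =>
        obtain ⟨c, rfl⟩ := Ideal.Quotient.mk_surjective q
        obtain ⟨a, ha⟩ := (Submodule.mem_span_range_iff_exists_fun A').1
          (show (j : A') ∈ Submodule.span A' (Set.range e) from h.span.symm ▸ j.2)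
        refine ⟨fun i => a i • c, ?_⟩
        have hj : j = ∑ i, a i • (⟨e i, h.span ▸ Ideal.subset_span ⟨i, rfl⟩⟩ : J) :=
          Subtype.ext (by simp [← ha])
        conv_lhs => rw [hj, tmul_sum]
        exact Finset.sum_congr rfl fun i _ => by rw [tmul_smul, smul_tmul']; rfl
    obtain ⟨c, rfl⟩ := hz'
    have hc : comb e c ∈ I'' := by
      rw [← Ideal.Quotient.eq_zero_iff_mem]
      have := congrArg (TensorProduct.rid A' (B' ⧸ I'')) hz
      rw [map_sum, map_sum, map_zero] at this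
      rw [comb, map_sum, ← this]
      exact Finset.sum_congr rfl fun i _ => rfl
    obtain ⟨x, hx, b, hxb, hb⟩ := hc
    have hx0 : r x = 0 := by
      have := congrArg r hxb
      simpa [hrcomb] using this.symm
    have hx' : x ∈ I' := hx
    have hcb : ∀ i, r ((c - b) i) ∈ I₀ := hI'.coeff_mem h hr
      (by rw [comb_sub, hxb, add_sub_cancel_right]; exact hx')
    have hb0 : ∀ i, r (b i) ∈ I₀ := fun i => Ideal.Quotient.eq_zero_iff_mem.1 (by
      rw [hb i, show (⟨r x, hI'.mem_map hx⟩ : I₀) = 0 from Subtype.ext hx0, map_zero]; rfl)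
    refine Finset.sum_eq_zero fun i _ => ?_
    have hci : r (c i) ∈ I''.map r := hmap.symm ▸ (by
      have := I₀.add_mem (hcb i) (hb0 i); simpa using this)
    obtain ⟨y, hy, hyc⟩ := (Ideal.mem_map_iff_of_surjective r hr.surjective).1 hci
    have hm : c i - y ∈ m.map (algebraMap A' B') := hr.ker ▸ RingHom.mem_ker.2 (by rw [map_sub, hyc, sub_self])
    rw [show Ideal.Quotient.mk I'' (c i) = Ideal.Quotient.mk I'' (c i - y) by
      rw [map_sub, Ideal.Quotient.eq_zero_iff_mem.2 hy, sub_zero]]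
    exact h.tmul_eq_zero I'' _ hm
  · -- the reduction is the one of `I'`
    let eM := (Classical.choice (nonempty_quotSMul J I')).trans
      ((Ideal.quotientEquivAlgOfEq A' hsame).toLinearEquiv.trans (Classical.choice (nonempty_quotSMul J I'')).symm)
    haveI : Module.Flat (A' ⧸ J) ((A' ⧸ J) ⊗[A'] (B' ⧸ I')) := inferInstance
    have e1 := (TensorProduct.quotTensorEquivQuotSMul (B' ⧸ I') J).trans
      (eM.trans (TensorProduct.quotTensorEquivQuotSMul (B' ⧸ I'') J).symm)
    exact Module.Flat.of_linearEquiv (LinearEquiv.extendScalarsOfSurjective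
      Ideal.Quotient.mk_surjective e1).symm

/-- A sublift agreeing modulo `J` and modulo `m` is the whole lift. -/
theorem IsLift.eq_of_le (h : Small J m e) (hr : IsRed m r) {I'' K : Ideal B'} (hI : IsLift r I₀ A' I'')
    (hle : K ≤ I'') (hJ : SameBase J K I'') (hmap : K.map r = I₀) : K = I'' := by
  refine le_antisymm hle fun y hy => ?_
  obtain ⟨b, hb⟩ := SameBase.exists_add h hJ.symm hy
  have hbI : ∀ i, r (b i) ∈ I₀ := hI.coeff_mem h hr (by
    have := I''.sub_mem (hle hb) hy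
    rwa [add_sub_cancel_left] at this)
  have hcomb : comb e b ∈ K := by
    refine Ideal.sum_mem _ fun i _ => ?_
    obtain ⟨w, hw, hwb⟩ := (Ideal.mem_map_iff_of_surjective r hr.surjective).1 (hmap.symm ▸ hbI i)
    have : e i • b i = e i • w := by
      rw [← sub_eq_zero, ← smul_sub]
      exact h.smul_eq_zero i (hr.ker ▸ RingHom.mem_ker.2 (by rw [map_sub, hwb, sub_self]))
    rw [this, Algebra.smul_def]
    exact K.mul_mem_left _ hw
  simpa using K.sub_mem hb hcomb

theorem comb_map {A'' C' κ : Type u} [CommRing A''] [CommRing C'] [Algebra A'' C'] [Fintype κ]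
    {e' : κ → A''} (fA : A' →+* A'') (f : B' →+* C')
    (hf : ∀ a, f (algebraMap A' B' a) = algebraMap A'' C' (fA a)) (c : κ → ι → A'')
    (hc : ∀ j, fA (e j) = ∑ l, c l j * e' l) (b : ι → B') :
    f (comb e b) = comb e' (fun l => ∑ j, algebraMap A'' C' (c l j) * f (b j)) := by
  simp only [comb, map_sum, Algebra.smul_def, map_mul, hf, hc, Finset.sum_mul, Finset.mul_sum]
  rw [Finset.sum_comm]
  refine Finset.sum_congr rfl fun l _ => Finset.sum_congr rfl fun j _ => ?_
  ring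

/-- Differences are functorial. -/
theorem IsDiff.map {A'' C' C₀ κ : Type u} [CommRing A''] [CommRing C'] [CommRing C₀] [Algebra A'' C']
    [Fintype κ] {J' m' : Ideal A''} {e' : κ → A''} {s : C' →+* C₀} {K₀ : Ideal C₀} {K' K'' : Ideal C'}
    (h' : Small J' m' e') (hs : IsRed m' s) (hK'' : IsLift s K₀ A'' K'')
    (fA : A' →+* A'') (f : B' →+* C') (f₀ : B₀ →+* C₀)
    (hf : ∀ a, f (algebraMap A' B' a) = algebraMap A'' C' (fA a)) (hrs : ∀ z, s (f z) = f₀ (r z))
    (c : κ → ι → A'') (hc : ∀ j, fA (e j) = ∑ l, c l j * e' l)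
    (hr : IsRed m r) (hI' : IsLift r I₀ A' I')
    (h₁ : I'.map f ≤ K') (h₂ : I''.map f ≤ K'') (hle : I₀ ≤ K₀.comap f₀)
    {χ : K₀ → κ → C₀ ⧸ K₀}
    (hφ : IsDiff r e φ I' I'') (hχ : IsDiff s e' χ K' K'') (y : I₀) (l : κ) :
    χ ⟨f₀ y, hle y.2⟩ l =
      ∑ j, Ideal.Quotient.mk K₀ (s (algebraMap A'' C' (c l j))) * Ideal.quotientMap K₀ f₀ hle (φ y j) := by
  obtain ⟨x, hx, hxy⟩ := hI'.exists_preimage hr y.2
  obtain ⟨b, hb, hbφ⟩ := hφ x hx (hxy ▸ y.2)
  have hfx : f x ∈ K' := h₁ (Ideal.mem_map_of_mem f hx)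
  have hfb := h₂ (Ideal.mem_map_of_mem f hb)
  rw [map_add, comb_map fA f hf c hc b] at hfb
  have hsx : s (f x) = f₀ y := by rw [hrs, hxy]
  have hmem : s (f x) ∈ K₀ := hsx ▸ hle y.2
  rw [show (⟨f₀ y, hle y.2⟩ : K₀) = ⟨s (f x), hmem⟩ from Subtype.ext hsx.symm,
    ← hχ.coeff_eq h' hs hK'' hfx hmem hfb l]
  simp only [map_sum, map_mul, hrs]
  refine Finset.sum_congr rfl fun j _ => ?_
  rw [show φ y j = φ ⟨r x, hxy ▸ y.2⟩ j from congrArg (fun z => φ z j) (Subtype.ext hxy.symm), ← hbφ j,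
    Ideal.quotientMap_mk]

end Groth.Agent.Hilb85.LiftAlg
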