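import Groth.Agent.Hilb85.Square
import Groth.Agent.Hilb85.LiftAlg
import Groth.Agent.Deform85.HilbGlue
import Groth.Agent.QC70.Comap

/-!
The local Hilbert functor on affine charts: an element over `A` is a family of ideals
`I(U) ⊆ Γ(X_A, U)`, `U` affine open in `X`, compatible with localisation, with flat quotients, and
reducing to `I₀(U)`.
-/

set_option autoImplicit false
set_option linter.style.haveILetI false
set_option backward.isDefEq.respectTransparency false
universe u

open CategoryTheory CategoryTheory.Limits AlgebraicGeometry TopologicalSpace Opposite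
open ArtFun ArtFun.Art

noncomputable section

namespace Groth.Agent.Hilb85

variable {k : Type u} [Field k] {X : Scheme.{u}} (x : X ⟶ specPt k)

/-- The projection `X_A → X`. -/
abbrev proj (A : Art k k) : XA x A ⟶ X := pullback.fst x (specOver A)

instance isAffineHom_proj (A : Art k k) : IsAffineHom (proj x A) := by
  haveI : IsAffineHom (specOver A) := isAffineHom_of_isAffine _
  exact MorphismProperty.pullback_fst (P := @IsAffineHom) _ _ inferInstance

theorem isAffineOpen_proj (A : Art k k) (U : X.affineOpens) : IsAffineOpen (proj x A ⁻¹ᵁ U.1) :=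
  U.2.preimage _

/-- The affine open of `X_A` over `U`. -/
abbrev chart (A : Art k k) (U : X.affineOpens) : (XA x A).affineOpens :=
  ⟨proj x A ⁻¹ᵁ U.1, isAffineOpen_proj x A U⟩

/-- The sections over the chart. -/
abbrev sects (A : Art k k) (U : X.affineOpens) : CommRingCat.{u} := Γ(XA x A, (chart x A U).1)

instance algebraSects (A : Art k k) (U : X.affineOpens) : Algebra A.carrier (sects x A U) :=
  (baseMap (A' := CommRingCat.of A.carrier) (XApr x A) (chart x A U).1).toAlgebra

theorem algebraMap_sects (A : Art k k) (U : X.affineOpens) :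
    algebraMap A.carrier (sects x A U) = baseMap (A' := CommRingCat.of A.carrier) (XApr x A) (chart x A U).1 :=
  rfl

theorem flat_sects (A : Art k k) (U : X.affineOpens) : Module.Flat A.carrier (sects x A U) := by
  haveI : Flat x := Def38.flat_of_field x
  haveI : Flat (XApr x A) := MorphismProperty.pullback_snd (P := @Flat) _ _ inferInstance
  exact RingHom.flat_algebraMap_iff.1 (flat_baseMap (A' := CommRingCat.of A.carrier) (XApr x A) (chart x A U))

/-- Restriction between charts. -/
def res (A : Art k k) {U V : X.affineOpens} (h : V.1 ≤ U.1) : sects x A U →+* sects x A V :=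
  ((XA x A).presheaf.map (homOfLE ((proj x A).preimage_mono h)).op).hom

theorem chart_map {A B : Art k k} (g : A ⟶ B) (U : X.affineOpens) :
    (chart x B U).1 = XAmap x g ⁻¹ᵁ (chart x A U).1 := by
  show proj x B ⁻¹ᵁ U.1 = XAmap x g ⁻¹ᵁ (proj x A ⁻¹ᵁ U.1)
  rw [← Scheme.Hom.comp_preimage, XAmap_fst]

theorem chart_incl (A : Art k k) (U : X.affineOpens) : U.1 = XAincl x A ⁻¹ᵁ (chart x A U).1 := by
  show U.1 = XAincl x A ⁻¹ᵁ (proj x A ⁻¹ᵁ U.1)
  rw [← Scheme.Hom.comp_preimage, XAincl_fst, Scheme.Hom.id_preimage]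

/-- The map on charts along a morphism of artinian algebras. -/
def gmap {A B : Art k k} (g : A ⟶ B) (U : X.affineOpens) : sects x A U →+* sects x B U :=
  ((XAmap x g).appLE _ _ (chart_map x g U).le).hom

/-- Reduction to the closed fibre. -/
def red (A : Art k k) (U : X.affineOpens) : sects x A U →+* Γ(X, U.1) :=
  ((XAincl x A).appLE _ _ (chart_incl x A U).le).hom

theorem res_gmap {A B : Art k k} (g : A ⟶ B) {U V : X.affineOpens} (h : V.1 ≤ U.1) (s : sects x A U) :
    gmap x g V (res x A h s) = res x B h (gmap x g U s) := by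
  show ((XA x A).presheaf.map _ ≫ (XAmap x g).appLE _ _ _) s =
    ((XAmap x g).appLE _ _ _ ≫ (XA x B).presheaf.map _) s
  rw [Scheme.Hom.map_appLE, Scheme.Hom.appLE_map]

theorem res_red (A : Art k k) {U V : X.affineOpens} (h : V.1 ≤ U.1) (s : sects x A U) :
    red x A V (res x A h s) = (X.presheaf.map (homOfLE h).op).hom (red x A U s) := by
  show ((XA x A).presheaf.map _ ≫ (XAincl x A).appLE _ _ _) s =
    ((XAincl x A).appLE _ _ _ ≫ X.presheaf.map _) s
  rw [Scheme.Hom.map_appLE, Scheme.Hom.appLE_map]

theorem res_res (A : Art k k) {U V W : X.affineOpens} (h : V.1 ≤ U.1) (h' : W.1 ≤ V.1) (s : sects x A U) :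
    res x A h' (res x A h s) = res x A (h'.trans h) s := by
  show ((XA x A).presheaf.map _ ≫ (XA x A).presheaf.map _) s = (XA x A).presheaf.map _ s
  rw [← Functor.map_comp]
  rfl

theorem red_gmap {A B : Art k k} (g : A ⟶ B) (U : X.affineOpens) (s : sects x A U) :
    red x B U (gmap x g U s) = red x A U s := by
  show ((XAmap x g).appLE _ _ _ ≫ (XAincl x B).appLE _ _ _) s = (XAincl x A).appLE _ _ _ s
  rw [Scheme.Hom.appLE_comp_appLE]
  simp only [XAincl_XAmap]

theorem gmap_algebraMap {A B : Art k k} (g : A ⟶ B) (U : X.affineOpens) (a : A.carrier) :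
    gmap x g U (algebraMap A.carrier (sects x A U) a) = algebraMap B.carrier (sects x B U) (g a) :=
  appLE_baseMap (φ := CommRingCat.ofHom g.toAlgHom.toRingHom) (isPullback_XAmap x g).w _ _ _ a

theorem res_algebraMap (A : Art k k) {U V : X.affineOpens} (h : V.1 ≤ U.1) (a : A.carrier) :
    res x A h (algebraMap A.carrier (sects x A U) a) = algebraMap A.carrier (sects x A V) a := by
  show ((XApr x A).appLE ⊤ _ _ ≫ (XA x A).presheaf.map _)
    ((Scheme.ΓSpecIso (CommRingCat.of A.carrier)).inv a) = _
  rw [Scheme.Hom.appLE_map]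
  rfl

theorem surjective_gmap {A B : Art k k} (g : A ⟶ B) (hg : Function.Surjective g) (U : X.affineOpens) :
    Function.Surjective (gmap x g U) :=
  (surjective_appLE_and_ker (isPullback_XAmap x g) hg (chart x A U) _ (chart_map x g U)).1

theorem ker_gmap {A B : Art k k} (g : A ⟶ B) (hg : Function.Surjective g) (U : X.affineOpens) :
    RingHom.ker (gmap x g U) = (RingHom.ker g.toAlgHom).map (algebraMap A.carrier (sects x A U)) :=
  (surjective_appLE_and_ker (isPullback_XAmap x g) hg (chart x A U) _ (chart_map x g U)).2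

theorem isRed (A : Art k k) (U : X.affineOpens) :
    LiftAlg.IsRed (IsLocalRing.maximalIdeal A.carrier) (red x A U) := by
  have h := surjective_appLE_and_ker (φ := CommRingCat.ofHom A.res.toRingHom) (isPullback_XAincl x A)
    A.res_surjective (chart x A U) U.1 (chart_incl x A U)
  refine ⟨h.1, h.2.trans ?_⟩
  congr 1
  exact Ideal.ext fun a => (A.mem_maximalIdeal_iff a).symm

theorem exists_chart (A : Art k k) (W : (XA x A).affineOpens) : ∃ U : X.affineOpens, chart x A U = W := by
  have hres := Deform85.HilbGlue.specRes_thickening A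
  haveI : IsClosedImmersion (XAincl x A) :=
    MorphismProperty.of_isPullback (isPullback_XAincl x A).flip hres.1.1
  haveI : Surjective (XAincl x A) :=
    MorphismProperty.of_isPullback (P := @Surjective) (isPullback_XAincl x A).flip hres.1.2
  refine ⟨⟨XAincl x A ⁻¹ᵁ W.1, W.2.preimage _⟩, Subtype.ext (Opens.ext (Set.ext fun z => ?_))⟩
  obtain ⟨y, rfl⟩ := (XAincl x A).surjective z
  show XAincl x A (proj x A (XAincl x A y)) ∈ W.1 ↔ _
  rw [← Scheme.Hom.comp_apply (XAincl x A) (proj x A), XAincl_fst]
  rfl

variable {x} (I₀ : X.IdealSheafData)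

/-- A family of ideals of the charts. -/
structure Fam (x : X ⟶ specPt k) (A : Art k k) : Type u where
  /-- The ideals. -/
  ideal : ∀ U : X.affineOpens, Ideal (sects x A U)
  compat : ∀ {U V : X.affineOpens} (h : V.1 ≤ U.1), (ideal U).map (res x A h) = ideal V
  lift : ∀ U : X.affineOpens, LiftAlg.IsLift (red x A U) (I₀.ideal U) A.carrier (ideal U)

variable {I₀} {A B : Art k k}

theorem ideal_comap_incl (I : (XA x A).IdealSheafData) (U : X.affineOpens) :
    (I.comap (XAincl x A)).ideal U = (I.ideal (chart x A U)).map (red x A U) := by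
  haveI : IsClosedImmersion (XAincl x A) :=
    MorphismProperty.of_isPullback (isPullback_XAincl x A).flip (Deform85.HilbGlue.specRes_thickening A).1.1
  have h1 := QC70.ideal_comap_preimage (XAincl x A) I (chart x A U)
  have h2 := (I.comap (XAincl x A)).map_ideal
    (V := ⟨XAincl x A ⁻¹ᵁ (chart x A U).1, (chart x A U).2.preimage _⟩) (U := U) (chart_incl x A U).le
  rw [← h2, h1, Ideal.map_map]
  rfl

theorem map_red_iff {I : (XA x A).IdealSheafData} :
    I.comap (XAincl x A) = I₀ ↔ ∀ U, (I.ideal (chart x A U)).map (red x A U) = I₀.ideal U := by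
  have h := ideal_comap_incl I
  exact ⟨fun e U => by rw [← h, e], fun e => Scheme.IdealSheafData.ext (funext fun U => (h U).trans (e U))⟩

theorem ideal_map_gmap (g : A ⟶ B) (I : (XA x A).IdealSheafData) (U : X.affineOpens) :
    (I.comap (XAmap x g)).ideal (chart x B U) = (I.ideal (chart x A U)).map (gmap x g U) := by
  haveI : IsAffineHom (XAmap x g) :=
    MorphismProperty.of_isPullback (P := @IsAffineHom) (isPullback_XAmap x g).flip (isAffineHom_of_isAffine _)
  have h1 := QC70.ideal_comap_preimage (XAmap x g) I (chart x A U)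
  have h2 := (I.comap (XAmap x g)).map_ideal
    (V := ⟨XAmap x g ⁻¹ᵁ (chart x A U).1, (chart x A U).2.preimage _⟩) (U := chart x B U) (chart_map x g U).le
  rw [← h2, h1, Ideal.map_map]
  rfl

theorem flatOver_iff_of_cover {σ : Type u} (c : σ → X.affineOpens) (hc : ∀ q : X, ∃ j, q ∈ (c j).1)
    {I : (XA x A).IdealSheafData} :
    ArtFun.FlatOver X x A I ↔ ∀ j, Module.Flat A.carrier (sects x A (c j) ⧸ I.ideal (chart x A (c j))) := by
  let f := I.subschemeι ≫ XApr x A
  let W : X.affineOpens → I.subscheme.affineOpens := fun U =>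
    ⟨I.subschemeι ⁻¹ᵁ (chart x A U).1, (chart x A U).2.preimage _⟩
  have hcov : (⨆ j, (W (c j)).1) = (⊤ : I.subscheme.Opens) := by
    refine top_le_iff.1 fun z _ => ?_
    obtain ⟨j, hj⟩ := hc (proj x A (I.subschemeι z))
    exact Opens.mem_iSup.2 ⟨j, hj⟩
  show Flat f ↔ _
  rw [HasRingHomProperty.iff_of_iSup_eq_top (P := @Flat) (fun j => W (c j)) hcov]
  refine forall_congr' fun j => ?_
  generalize c j = U
  let s : sects x A U →+* Γ(I.subscheme, (W U).1) := (I.subschemeι.app (chart x A U).1).hom
  let c : A.carrier →+* sects x A U ⧸ I.ideal (chart x A U) :=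
    (Ideal.Quotient.mk _).comp (algebraMap A.carrier (sects x A U))
  have hker : I.ideal (chart x A U) = RingHom.ker s := (I.ker_subschemeι_app _).symm
  let e : (sects x A U ⧸ I.ideal (chart x A U)) ≃+* Γ(I.subscheme, (W U).1) :=
    (Ideal.quotEquivOfEq hker).trans (RingHom.quotientKerEquivOfSurjective (f := s) (I.subschemeι_app_surjective _))
  let g : CommRingCat.of A.carrier ≅ Γ(spec A, ⊤) := (Scheme.ΓSpecIso (CommRingCat.of A.carrier)).symm
  have hc : (f.appLE ⊤ (W U).1 le_top).hom.comp g.commRingCatIsoToRingEquiv.toRingHom = e.toRingHom.comp c := by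
    ext a
    show f.appLE ⊤ (W U).1 le_top (g.hom a) = s ((XApr x A).appLE ⊤ (chart x A U).1 le_top (g.hom a))
    rw [← ConcreteCategory.comp_apply ((XApr x A).appLE ⊤ (chart x A U).1 le_top)]
    simp only [s, f, Scheme.Hom.app_eq_appLE, Scheme.Hom.appLE_comp_appLE]
    rfl
  have hresp := RingHom.Flat.respectsIso.{u}
  have hiff : (f.appLE ⊤ (W U).1 le_top).hom.Flat ↔ c.Flat := by
    constructor
    · intro h
      have h2 := hresp.2 _ g.commRingCatIsoToRingEquiv h
      rw [hc] at h2
      have h3 := hresp.1 _ e.symm h2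
      rwa [← RingHom.comp_assoc, RingEquiv.toRingHom_eq_coe, RingEquiv.toRingHom_eq_coe,
        RingEquiv.symm_comp, RingHom.id_comp] at h3
    · intro h
      have h2 := hresp.1 _ e h
      rw [← hc] at h2
      have h3 := hresp.2 _ g.commRingCatIsoToRingEquiv.symm h2
      rwa [RingHom.comp_assoc, RingEquiv.toRingHom_eq_coe, RingEquiv.toRingHom_eq_coe,
        RingEquiv.comp_symm, RingHom.comp_id] at h3
  exact hiff.trans RingHom.flat_algebraMap_iff

theorem flatOver_iff {I : (XA x A).IdealSheafData} :
    ArtFun.FlatOver X x A I ↔ ∀ U, Module.Flat A.carrier (sects x A U ⧸ I.ideal (chart x A U)) := by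
  refine flatOver_iff_of_cover id fun q => ?_
  obtain ⟨_, ⟨V, hV, rfl⟩, hq, -⟩ := X.isBasis_affineOpens.exists_subset_of_mem_open (Set.mem_univ q) isOpen_univ
  exact ⟨⟨V, hV⟩, hq⟩

/-- The family of an element of the local Hilbert functor. -/
def Fam.ofObj (I : (localHilb X x I₀).obj A) : Fam I₀ x A where
  ideal U := I.1.ideal (chart x A U)
  compat h := I.1.map_ideal ((proj x A).preimage_mono h)
  lift U := ⟨flatOver_iff.1 I.2.1 U, map_red_iff.1 I.2.2 U⟩

/-- The ideal sheaf of a family. -/
def Fam.sheaf (F : Fam I₀ x A) : (XA x A).IdealSheafData where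
  ideal W := (F.ideal (exists_chart x A W).choose).map
    ((XA x A).presheaf.map (eqToHom (congrArg Subtype.val (exists_chart x A W).choose_spec).symm).op).hom
  map_ideal_basicOpen W f := by
    have key : ∀ (U : X.affineOpens) (W : (XA x A).affineOpens) (h : chart x A U = W),
        (F.ideal (exists_chart x A W).choose).map
          ((XA x A).presheaf.map (eqToHom (congrArg Subtype.val (exists_chart x A W).choose_spec).symm).op).hom =
        (F.ideal U).map ((XA x A).presheaf.map (eqToHom (congrArg Subtype.val h).symm).op).hom := by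
      intro U W h
      obtain ⟨hU, hU'⟩ : ∃ hle : (exists_chart x A W).choose.1 ≤ U.1, True := ⟨fun z hz => by
        have h1 : XAincl x A z ∈ (chart x A U).1 := by
          rw [h, ← (exists_chart x A W).choose_spec]
          exact (chart_incl x A _).le hz
        exact (chart_incl x A U).ge h1, trivial⟩
      rw [← F.compat hU, Ideal.map_map, res, ← CommRingCat.hom_comp, ← Functor.map_comp]
      rfl
    obtain ⟨U, rfl⟩ := exists_chart x A W
    obtain ⟨V, hV⟩ := exists_chart x A ((XA x A).affineBasicOpen f)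
    have hle : V.1 ≤ U.1 := fun z hz => by
      have h1 : XAincl x A z ∈ (chart x A U).1 := by
        have h2 : XAincl x A z ∈ (chart x A V).1 := (chart_incl x A V).le hz
        rw [hV] at h2
        exact (XA x A).basicOpen_le f h2
      exact (chart_incl x A U).ge h1
    rw [key U _ rfl, key V _ hV, ← F.compat hle, Ideal.map_map, Ideal.map_map, res, ← CommRingCat.hom_comp,
      ← Functor.map_comp, ← CommRingCat.hom_comp, ← Functor.map_comp]
    rfl

theorem Fam.sheaf_ideal (F : Fam I₀ x A) (U : X.affineOpens) : F.sheaf.ideal (chart x A U) = F.ideal U := by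
  have hW := (exists_chart x A (chart x A U)).choose_spec
  have hle : (exists_chart x A (chart x A U)).choose.1 ≤ U.1 := fun z hz => by
    have h1 : XAincl x A z ∈ (chart x A U).1 := by
      rw [← hW]; exact (chart_incl x A _).le hz
    exact (chart_incl x A U).ge h1
  show Ideal.map _ _ = _
  rw [← F.compat hle, Ideal.map_map, res, ← CommRingCat.hom_comp, ← Functor.map_comp]
  refine Eq.trans ?_ (F.compat (le_refl U.1))
  rfl

/-- The element of the local Hilbert functor of a family. -/
def Fam.toObj (F : Fam I₀ x A) : (localHilb X x I₀).obj A :=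
  ⟨F.sheaf, flatOver_iff.2 fun U => (F.sheaf_ideal U).symm ▸ (F.lift U).flat,
    map_red_iff.2 fun U => (F.sheaf_ideal U).symm ▸ (F.lift U).map⟩

theorem Fam.ideal_injective {F G : Fam I₀ x A} (h : ∀ U, F.ideal U = G.ideal U) : F = G := by
  obtain ⟨a, _, _⟩ := F
  obtain ⟨b, _, _⟩ := G
  obtain rfl : a = b := funext h
  rfl

/-- The local Hilbert functor consists of the families. -/
def famEquiv (A : Art k k) : (localHilb X x I₀).obj A ≃ Fam I₀ x A where
  toFun := Fam.ofObj
  invFun := Fam.toObj
  left_inv I := Subtype.ext (Scheme.IdealSheafData.ext (funext fun W => by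
    obtain ⟨U, rfl⟩ := exists_chart x A W
    exact (Fam.ofObj I).sheaf_ideal U))
  right_inv F := Fam.ideal_injective fun U => F.sheaf_ideal U

theorem famEquiv_map (g : A ⟶ B) (I : (localHilb X x I₀).obj A) (U : X.affineOpens) :
    (famEquiv B ((localHilb X x I₀).map g I)).ideal U = ((famEquiv A I).ideal U).map (gmap x g U) :=
  ideal_map_gmap g I.1 U

end Groth.Agent.Hilb85
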