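import Groth.Agent.Hilb85.Torsor
import Groth.Agent.Hilb85.NormalH0
import Groth.Agent.S12707
import Mathlib.LinearAlgebra.TensorProduct.Basis

/-!
The tangent space and the fibres of the local Hilbert functor.
-/

set_option autoImplicit false
set_option linter.style.haveILetI false
set_option backward.isDefEq.respectTransparency false
universe u

open CategoryTheory CategoryTheory.Limits AlgebraicGeometry TopologicalSpace Opposite TensorProduct
open ArtFun ArtFun.Art

noncomputable section

namespace Groth.Agent.Hilb85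

variable {k : Type u} [Field k] {X : Scheme.{u}} {x : X ⟶ specPt k} {I₀ : X.IdealSheafData}

theorem baseMap_smul_eq {A : Art k k} (U : X.affineOpens) (c : k) (q : Γ(X, U.1) ⧸ I₀.ideal U) :
    Ideal.Quotient.mk (I₀.ideal U) (red x A U (algebraMap A.carrier (sects x A U) (algebraMap k A.carrier c))) * q =
      Ideal.Quotient.mk (I₀.ideal U) (baseMap (A' := CommRingCat.of k) x U.1 c) * q := by
  rw [red_algebraMap, AlgHom.commutes]
  rfl

/-- Differences along a morphism of artinian algebras. -/
theorem famDiff_map {A₁ B₁ B₁' : Art k k} {q : B₁ ⟶ B₁'} {ι κ : Type u} [Fintype ι] [Fintype κ]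
    {e : ι → A₁.carrier} {e' : κ → B₁.carrier}
    (hq : Function.Surjective q)
    (he' : LiftAlg.Small (RingHom.ker q.toAlgHom) (IsLocalRing.maximalIdeal B₁.carrier) e')
    (g : A₁ ⟶ B₁) (c : κ → ι → k) (hc : ∀ j, g (e j) = ∑ l, algebraMap k B₁.carrier (c l j) * e' l)
    {F F' : Fam I₀ x A₁} {G G' : Fam I₀ x B₁} (hG : ∀ U, (F.ideal U).map (gmap x g U) = G.ideal U)
    (hG' : ∀ U, (F'.ideal U).map (gmap x g U) = G'.ideal U)
    {a : ι → HomFam I₀ (⊤ : X.Opens)} {b : κ → HomFam I₀ (⊤ : X.Opens)}
    (ha : IsFamDiff e a F F') (hb : IsFamDiff e' b G G') (l : κ) (U : X.affineOpens) (y : I₀.ideal U) :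
    (b l).map U le_top y = ∑ j, Ideal.Quotient.mk (I₀.ideal U) (baseMap (A' := CommRingCat.of k) x U.1 (c l j)) *
      (a j).map U le_top y := by
  have h := (ha U).map (C' := sects x B₁ U) (e' := e') (κ := κ) he' (isRed x B₁ U) (G'.lift U) g.toAlgHom.toRingHom
    (gmap x g U) (RingHom.id Γ(X, U.1)) (gmap_algebraMap x g U) (red_gmap x g U)
    (fun l j => algebraMap k B₁.carrier (c l j)) hc (isRed x A₁ U) (F.lift U) (hG U).le (hG' U).le
    le_rfl (hb U) y l
  refine (h : (b l).map U le_top y = _).trans (Finset.sum_congr rfl fun j _ => ?_)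
  rw [baseMap_smul_eq]
  congr 1
  obtain ⟨z, hz⟩ := Ideal.Quotient.mk_surjective ((a j).map U le_top y)
  show Ideal.quotientMap _ _ _ ((a j).map U le_top y) = _
  rw [← hz]
  rfl

/-- The unique point over the closed point, spread out trivially. -/
def trivObj (A : Art k k) : (localHilb X x I₀).obj A :=
  (localHilb X x I₀).map (ofBase A) Deform85.HilbGlue.h0.1.some

theorem map_trivObj {A B : Art k k} (g : A ⟶ B) :
    (localHilb X x I₀).map g (trivObj A) = trivObj B := by
  rw [trivObj, trivObj, ArtF85.map_map]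
  rw [show ofBase A ≫ g = ofBase B from ArtFun.Art.hom_ext (AlgHom.ext fun (c : k) => g.toAlgHom.commutes c)]

theorem famEquiv_map_eq {A B : Art k k} (g : A ⟶ B) (I : (localHilb X x I₀).obj A) (U : X.affineOpens) :
    ((famEquiv A I).ideal U).map (gmap x g U) = (famEquiv B ((localHilb X x I₀).map g I)).ideal U :=
  (famEquiv_map g I U).symm

/-- The tuples of families as a tensor product. -/
theorem nonempty_fibre_equiv {A' A : Art k k} (p : A' ⟶ A) (hp : IsSemismallExt p)
    (I' : (localHilb X x I₀).obj A') {M : Type u} [AddCommGroup M] [Module k M]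
    (eM : M ≃ HomFam I₀ (⊤ : X.Opens)) :
    Nonempty ({J : (localHilb X x I₀).obj A' // (localHilb X x I₀).map p J = (localHilb X x I₀).map p I'} ≃
      M ⊗[k] ↥(RingHom.ker p.toAlgHom)) := by
  classical
  obtain ⟨ι, _, e, he, hli⟩ := exists_coords p hp
  let v : ι → ↥(RingHom.ker p.toAlgHom) := fun i => ⟨e i, he.span.le (Ideal.subset_span ⟨i, rfl⟩)⟩
  have hindep : LinearIndependent k v := Fintype.linearIndependent_iff.2 fun c hc i => congrFun (hli c (by
    have := congrArg (Subtype.val : ↥(RingHom.ker p.toAlgHom) → A'.carrier) hc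
    simpa [v] using this)) i
  have hspan : ⊤ ≤ Submodule.span k (Set.range v) := fun j _ => by
    have hj : (j : A'.carrier) ∈ Submodule.span A'.carrier (Set.range e) := he.span.ge j.2
    obtain ⟨c, hc⟩ := (Submodule.mem_span_range_iff_exists_fun A'.carrier).1 hj
    refine (Submodule.mem_span_range_iff_exists_fun k).2 ⟨fun i => A'.res (c i), Subtype.ext ?_⟩
    rw [← hc, Submodule.coe_sum]
    refine Finset.sum_congr rfl fun i _ => ?_
    show A'.res (c i) • e i = c i • e i
    rw [Algebra.smul_def, smul_eq_mul, eq_comm, ← sub_eq_zero, ← sub_mul]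
    have := Ideal.mul_mem_mul (art_sub_mem A' (c i)) (v i).2
    rwa [he.mul, Ideal.mem_bot] at this
  let b := Module.Basis.mk hindep hspan
  exact ⟨(fibreFamEquiv I').trans ((fibreEquiv hp.1 he (famEquiv A' I')).trans
    (((Equiv.refl ι).arrowCongr eM.symm).trans
      ((Finsupp.linearEquivFunOnFinite k M ι).symm.trans
        (TensorProduct.equivFinsuppOfBasisRight b).symm).toEquiv))⟩

section Tangent

/-- `ε` as coordinates. -/
def epsCoord (k : Type u) [Field k] : PUnit.{u + 1} → (dual k k).carrier :=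
  fun _ => (TrivSqZeroExt.inr 1 : TrivSqZeroExt k k)

theorem small_tsze {κ V : Type u} [Fintype κ] [AddCommGroup V] [Module k V] [Module kᵐᵒᵖ V]
    [IsCentralScalar k V] (b : Module.Basis κ k V) :
    LiftAlg.Small (RingHom.ker (TrivSqZeroExt.fstHom k k V)) (RingHom.ker (TrivSqZeroExt.fstHom k k V))
      (fun j => (TrivSqZeroExt.inr (b j) : TrivSqZeroExt k V)) := by
  refine ⟨le_rfl, le_antisymm (Ideal.mul_le.2 fun a ha c hc => ?_) bot_le, ?_, ?_⟩
  · have h1 : a.fst = 0 := ha
    have h2 : c.fst = 0 := hc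
    show a * c = 0
    ext <;> simp [h1, h2]
  · refine le_antisymm (Ideal.span_le.2 ?_) fun a ha => ?_
    · rintro _ ⟨i, rfl⟩
      show TrivSqZeroExt.fst (TrivSqZeroExt.inr (b i) : TrivSqZeroExt k V) = 0
      simp
    · have h1 : a.fst = 0 := ha
      have e1 : a = ∑ j, TrivSqZeroExt.inl (b.repr a.snd j) * TrivSqZeroExt.inr (b j) := by
        ext
        · simp [h1, TrivSqZeroExt.fst_sum]
        · rw [TrivSqZeroExt.snd_sum]
          simp [b.sum_repr]
      rw [e1]
      exact Ideal.sum_mem _ fun j _ => Ideal.mul_mem_left _ _ (Ideal.subset_span ⟨j, rfl⟩)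
  · intro a ha i
    have h1 : TrivSqZeroExt.snd (∑ j, a j * TrivSqZeroExt.inr (b j)) = 0 := by rw [ha]; rfl
    rw [TrivSqZeroExt.snd_sum] at h1
    simp only [TrivSqZeroExt.snd_mul, TrivSqZeroExt.snd_inr, TrivSqZeroExt.fst_inr, MulOpposite.op_zero,
      zero_smul, add_zero] at h1
    exact Fintype.linearIndependent_iff.1 b.linearIndependent _ h1 i

theorem small_epsCoord : LiftAlg.Small (RingHom.ker (toBase (dual k k)).toAlgHom)
    (IsLocalRing.maximalIdeal (dual k k).carrier) (epsCoord k) := by
  have hm : IsLocalRing.maximalIdeal (dual k k).carrier = RingHom.ker (dual k k).res :=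
    Ideal.ext fun a => (dual k k).mem_maximalIdeal_iff a
  have h := small_tsze (Module.Basis.singleton PUnit.{u + 1} k)
  simp only [Module.Basis.singleton_apply] at h
  rw [hm]
  exact h

/-- `ε₁, ε₂` as coordinates. -/
def eps2Coord (k : Type u) [Field k] : ULift.{u} (Fin 2) → (dual2 k k).carrier :=
  fun j => (TrivSqZeroExt.inr (if j.down = 0 then (1, 0) else (0, 1)) : TrivSqZeroExt k (k × k))

theorem small_eps2Coord : LiftAlg.Small (RingHom.ker (toBase (dual2 k k)).toAlgHom)
    (IsLocalRing.maximalIdeal (dual2 k k).carrier) (eps2Coord k) := by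
  have hm : IsLocalRing.maximalIdeal (dual2 k k).carrier = RingHom.ker (dual2 k k).res :=
    Ideal.ext fun a => (dual2 k k).mem_maximalIdeal_iff a
  let b : Module.Basis (ULift.{u} (Fin 2)) k (k × k) :=
    (Module.Basis.finTwoProd k).reindex Equiv.ulift.symm
  have hb : (fun j => (TrivSqZeroExt.inr (b j) : TrivSqZeroExt k (k × k))) = eps2Coord k := by
    funext ⟨j⟩
    fin_cases j <;> simp [b, eps2Coord]
  have h := small_tsze b
  rw [hb] at h
  rw [hm]
  exact h

theorem surjective_toBase_hom (A : Art k k) : Function.Surjective (toBase A) := A.res_surjective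

theorem sameImage_toBase {A : Art k k} (I J : (localHilb X x I₀).obj A) :
    SameImage (toBase A) (famEquiv A I) (famEquiv A J) := fun U => by
  haveI : Subsingleton ((localHilb X x I₀).obj (base k k)) := Deform85.HilbGlue.h0.2
  rw [← famEquiv_map, ← famEquiv_map,
    Subsingleton.elim ((localHilb X x I₀).map (toBase A) I) ((localHilb X x I₀).map (toBase A) J)]

/-- The tangent space as families. -/
def tangentEquiv : (localHilb X x I₀).obj (dual k k) ≃ HomFam I₀ (⊤ : X.Opens) :=
  ((famEquiv (dual k k)).trans (Equiv.subtypeUnivEquiv fun F => by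
    obtain ⟨J, rfl⟩ := (famEquiv (dual k k)).surjective F
    exact sameImage_toBase (trivObj (dual k k)) J).symm).trans
    ((fibreEquiv (surjective_toBase_hom _) small_epsCoord (famEquiv (dual k k) (trivObj (dual k k)))).trans
      (Equiv.funUnique PUnit.{u + 1} _))

theorem tangentEquiv_spec (J : (localHilb X x I₀).obj (dual k k)) :
    IsFamDiff (epsCoord k) (fun _ => tangentEquiv J) (famEquiv (dual k k) (trivObj (dual k k))) (famEquiv _ J) :=
  fibreEquiv_spec (surjective_toBase_hom _) small_epsCoord _ ⟨famEquiv _ J, sameImage_toBase _ J⟩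

theorem tangentEquiv_map {B : Art k k} {κ : Type u} [Fintype κ] {e : κ → B.carrier}
    (he : LiftAlg.Small (RingHom.ker (toBase B).toAlgHom) (IsLocalRing.maximalIdeal B.carrier) e)
    (g : B ⟶ dual k k) (c : κ → k)
    (hc : ∀ j, g (e j) = algebraMap k (dual k k).carrier (c j) * epsCoord k PUnit.unit)
    (z : (localHilb X x I₀).obj B) {a : κ → HomFam I₀ (⊤ : X.Opens)}
    (ha : IsFamDiff e a (famEquiv B (trivObj B)) (famEquiv B z)) (U : X.affineOpens) (y : I₀.ideal U) :
    (tangentEquiv ((localHilb X x I₀).map g z)).map U le_top y =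
      ∑ j, Ideal.Quotient.mk (I₀.ideal U) (baseMap (A' := CommRingCat.of k) x U.1 (c j)) * (a j).map U le_top y :=
  famDiff_map (q := toBase (dual k k)) (surjective_toBase_hom _) small_epsCoord g (fun _ j => c j)
    (fun j => (hc j).trans (Fintype.sum_unique (fun l : PUnit.{u + 1} =>
      algebraMap k (dual k k).carrier (c j) * epsCoord k l)).symm)
    (fun U => (famEquiv_map_eq g (trivObj B) U).trans (by rw [map_trivObj]))
    (fun U => famEquiv_map_eq g z U) ha (tangentEquiv_spec _) PUnit.unit U y

theorem tangentEquiv_scale (c : k) (J : (localHilb X x I₀).obj (dual k k)) (U : X.affineOpens) (y : I₀.ideal U) :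
    (tangentEquiv ((localHilb X x I₀).map (scale c) J)).map U le_top y =
      Ideal.Quotient.mk (I₀.ideal U) (baseMap (A' := CommRingCat.of k) x U.1 c) * (tangentEquiv J).map U le_top y := by
  refine (tangentEquiv_map small_epsCoord (scale c) (fun _ => c) (fun j => ?_) J (tangentEquiv_spec J) U y).trans
    (Fintype.sum_unique _)
  show tszeMap _ (TrivSqZeroExt.inr 1 : TrivSqZeroExt k k) =
    (TrivSqZeroExt.inl c : TrivSqZeroExt k k) * TrivSqZeroExt.inr 1
  ext <;> simp [tszeMap]

/-- The tangent space is `H⁰` of the normal sheaf, linearly. -/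
theorem nonempty_tangent_linearEquiv [TangentStr (localHilb X x I₀)] [LocallyOfFiniteType x]
    {M : Type u} [AddCommGroup M] [Module k M] (eM : M ≃+ HomFam I₀ (⊤ : X.Opens))
    (hM : ∀ (c : k) (m : M) (U : X.affineOpens) (y : I₀.ideal U), (eM (c • m)).map U le_top y =
      Ideal.Quotient.mk (I₀.ideal U) (baseMap (A' := CommRingCat.of k) x U.1 c) * (eM m).map U le_top y) :
    Nonempty (TangentSpace (localHilb X x I₀) ≃ₗ[k] M) := by
  let T : TangentStr (localHilb X x I₀) := inferInstance
  let F := localHilb X x I₀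
  have hsurj : Function.Surjective (cmp F (isFibreProd_dual2 (Λ := k) (k := k))) :=
    Deform85.HilbGlue.surjective_cmp _ (surjective_toBase_hom _)
  rw [ArtF85.surjective_cmp_iff] at hsurj
  haveI : Subsingleton (F.obj (base k k)) := Deform85.HilbGlue.h0.2
  let φ : TangentSpace F → HomFam I₀ (⊤ : X.Opens) := fun J => tangentEquiv (TangentSpace.val J)
  have hsum : ∀ (i : ULift.{u} (Fin 2) → k) (g : dual2 k k ⟶ dual k k) (_ : ∀ j, g (eps2Coord k j) =
      algebraMap k (dual k k).carrier (i j) * epsCoord k PUnit.unit)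
      (z : F.obj (dual2 k k)) (a : ULift.{u} (Fin 2) → HomFam I₀ (⊤ : X.Opens))
      (_ : IsFamDiff (eps2Coord k) a (famEquiv _ (trivObj (dual2 k k))) (famEquiv _ z))
      (U : X.affineOpens) (y : I₀.ideal U), (tangentEquiv (F.map g z)).map U le_top y =
        Ideal.Quotient.mk (I₀.ideal U) (baseMap (A' := CommRingCat.of k) x U.1 (i ⟨0⟩)) * (a ⟨0⟩).map U le_top y +
        Ideal.Quotient.mk (I₀.ideal U) (baseMap (A' := CommRingCat.of k) x U.1 (i ⟨1⟩)) * (a ⟨1⟩).map U le_top y := by
    intro i g hg z a ha U y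
    rw [tangentEquiv_map small_eps2Coord g i hg z ha U y, ← Equiv.ulift.symm.sum_comp, Fin.sum_univ_two]
    rfl
  have hadd : ∀ J₁ J₂ : TangentSpace F, φ (J₁ + J₂) = φ J₁ + φ J₂ := by
    intro J₁ J₂
    obtain ⟨z, h1, h2⟩ := hsurj (TangentSpace.val J₁) (TangentSpace.val J₂) (Subsingleton.elim _ _)
    have he := T.add_eq z
    rw [h1, h2] at he
    obtain ⟨a, ha⟩ := exists_famDiff (surjective_toBase_hom _) small_eps2Coord (sameImage_toBase (trivObj (dual2 k k)) z)
    refine HomFam.ext (funext fun U => funext fun _ => LinearMap.ext fun y => ?_)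
    show (tangentEquiv (TangentSpace.val (J₁ + J₂))).map U le_top y = _
    rw [show TangentSpace.val (J₁ + J₂) = F.map plus z from he]
    show _ = (tangentEquiv (TangentSpace.val J₁)).map U le_top y + (tangentEquiv (TangentSpace.val J₂)).map U le_top y
    rw [← h1, ← h2,
      hsum (fun _ => 1) plus (fun j => ?_) z a ha U y,
      hsum (fun j => if j.down = 0 then 1 else 0) pr₁ (fun j => ?_) z a ha U y,
      hsum (fun j => if j.down = 0 then 0 else 1) pr₂ (fun j => ?_) z a ha U y]
    · simp
    all_goals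
      obtain ⟨j⟩ := j
      show tszeMap _ (TrivSqZeroExt.inr _ : TrivSqZeroExt k (k × k)) =
        (TrivSqZeroExt.inl _ : TrivSqZeroExt k k) * TrivSqZeroExt.inr 1
      fin_cases j <;> ext <;> simp [tszeMap]
  let e₀ : TangentSpace F ≃ HomFam I₀ (⊤ : X.Opens) := tangentEquiv
  refine ⟨{ e₀.trans eM.symm.toEquiv with
    map_add' := fun J₁ J₂ => ?_
    map_smul' := fun c J => ?_ }⟩
  · show eM.symm (φ (J₁ + J₂)) = eM.symm (φ J₁) + eM.symm (φ J₂)
    rw [hadd, map_add]
  · apply eM.injective
    show eM (eM.symm (φ (c • J))) = eM (c • eM.symm (φ J))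
    rw [AddEquiv.apply_symm_apply]
    refine HomFam.ext (funext fun U => funext fun _ => LinearMap.ext fun y => ?_)
    show (tangentEquiv (TangentSpace.val (c • J))).map U le_top y = (eM (c • eM.symm (φ J))).map U le_top y
    rw [hM, AddEquiv.apply_symm_apply, show TangentSpace.val (c • J) = F.map (scale c) J from T.smul_eq c J]
    exact tangentEquiv_scale c J U y

end Tangent

theorem subsingleton_of_homFam (h : Subsingleton (HomFam I₀ (⊤ : X.Opens))) {B A : Art k k} (p : B ⟶ A)
    (hp : Function.Surjective p) : Function.Injective ((localHilb X x I₀).map p) := by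
  refine S12707.result (fun {A B} f => Function.Injective ((localHilb X x I₀).map f)) ?_ ?_ ?_ p hp
  · intro A B e he I J hIJ
    have := congrArg ((localHilb X x I₀).map (inv e)) hIJ
    rwa [ArtF85.map_map, ArtF85.map_map, IsIso.hom_inv_id, FunctorToTypes.map_id_apply,
      FunctorToTypes.map_id_apply] at this
  · intro A B q hq I J hIJ
    obtain ⟨ι, _, e, he, -⟩ := exists_coords q hq.isSemismallExt
    exact congrArg Subtype.val
      (((fibreFamEquiv I).trans (fibreEquiv hq.1 he _)).injective (a₁ := ⟨I, rfl⟩) (a₂ := ⟨J, hIJ.symm⟩)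
        (funext fun i => h.elim _ _))
  · intro A B C f g hf hg I J hIJ
    refine hf (hg ?_)
    rw [ArtF85.map_map, ArtF85.map_map]
    exact hIJ

end Groth.Agent.Hilb85
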