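import Groth.Agent.Hilb85.HilbPoint
import Groth.Agent.Hilb85.Fibre
import Groth.Agent.Hilb85.NormalH0
import Groth.Agent.Hilb85.Obs
import Groth.Agent.Serre71.Finite
import Groth.Agent.Crv77.Degree
import Groth.Agent.QC70.HomCoh
import Groth.Agent.QCPull72.Sections
import Groth.Agent.Deform85.HullDim
import Groth.Agent.ArtF85.Tangent
import Groth.Agent.S12327
import Groth.Agent.S0548
import Groth.Agent.S5178

/-!
Tangent space and dimension estimates for the Hilbert scheme at a rational point.
-/

set_option autoImplicit false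
set_option linter.style.haveILetI false
universe u

open CategoryTheory CategoryTheory.Limits AlgebraicGeometry IsLocalRing
open ArtFun ArtFun.Art

attribute [-instance] CategoryTheory.catToReflQuiver

noncomputable section

namespace Groth.Agent.Hilb85

variable {k : Type u} [Field k]

section Invariants

variable {H : Scheme.{u}} (s : H ⟶ specPt k) (h : specPt k ⟶ H) (hh : h ≫ s = 𝟙 _) [IsLocallyNoetherian H]

theorem ringKrullDim_pointRing :
    ringKrullDim (pointRing s h hh).carrier = ringKrullDim (H.presheaf.stalk (pt h)) :=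
  haveI := Cohen12.isNoetherianRing_completion (H.presheaf.stalk (pt h))
  CAlg1.ringKrullDim_adicCompletion _

theorem finrank_cotangent_pointRing :
    Module.finrank (ResidueField (pointRing s h hh).carrier) (CotangentSpace (pointRing s h hh).carrier) =
      Module.finrank (ResidueField (H.presheaf.stalk (pt h))) (CotangentSpace (H.presheaf.stalk (pt h))) := by
  rw [← spanFinrank_maximalIdeal_eq_finrank_cotangentSpace, ← spanFinrank_maximalIdeal_eq_finrank_cotangentSpace]
  exact AdicCompletion.spanFinrank_maximalIdeal_eq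

theorem isRegularLocalRing_pointRing :
    IsRegularLocalRing (H.presheaf.stalk (pt h)) ↔ IsRegularLocalRing (pointRing s h hh).carrier :=
  S0548.result _

end Invariants

theorem isCompleteIntersection_of_presentation {A P R : Type u} [CommRing A] [IsLocalRing A] [IsNoetherianRing A]
    [CommRing P] [IsRegularLocalRing P] [CommRing R] (e : AdicCompletion (maximalIdeal A) A ≃+* R)
    (π : P →+* R) (hπ : Function.Surjective π) (t : Finset P) (ht : Ideal.span (t : Set P) = RingHom.ker π)
    (hdim : ringKrullDim P = ringKrullDim R + (t.card : WithBot ℕ∞)) : Pi1.IsCompleteIntersection A := by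
  haveI := Cohen12.isNoetherianRing_completion A
  obtain ⟨d, hd⟩ := CAlg9.CIT.exists_dim_eq A
  obtain ⟨e', he⟩ := CAlg9.CIT.exists_dim_eq P
  have hR : ringKrullDim R = (d : WithBot ℕ∞) :=
    (ringKrullDim_eq_of_ringEquiv e).symm.trans ((CAlg1.ringKrullDim_adicCompletion A).trans hd)
  rw [he, hR] at hdim
  have hed : e' = d + t.card := by exact_mod_cast hdim
  obtain ⟨h1, h2⟩ := S5178.result A P (RingHom.ker π)
    ⟨e.trans (RingHom.quotientKerEquivOfSurjective hπ).symm⟩ d e' hd he
  have hq : (RingHom.ker π).spanFinrank ≤ t.card := by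
    rw [← ht]
    exact (Submodule.spanFinrank_span_le_ncard_of_finite t.finite_toSet).trans (Set.ncard_coe_finset _).le
  exact h2.1 (by omega)

variable {X Y : Scheme.{u}} [X.Over (Spec (CommRingCat.of k))] (y : Y ⟶ specPt k) [IsProper y]
  (i : X ⟶ Y) [IsClosedImmersion i] (hi : i ≫ y = X ↘ Spec (CommRingCat.of k))
  [DCoh.HasSheafHom (Omega.conormal i)]
  {H : Over (specPt k)} (Z : FGA.HilbSet y H) (hH : FGA.HilbRepresentedBy y H Z)
  (h : Over.mk (𝟙 (specPt k)) ⟶ H)
  (hh : FGA.hilbPull y h Z.1 = i.ker.comap (pullback.fst y (Over.mk (𝟙 (specPt k))).hom))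

include hi hH hh

theorem finrank_cotangent_hilb :
    Module.finrank (ResidueField (H.left.presheaf.stalk (pt h.left))) (CotangentSpace (H.left.presheaf.stalk (pt h.left))) =
      Module.finrank k (Coh.HH X (normalSheaf i) 0) := by
  haveI := hH.1
  let R := pointProRep y h Z hh hH
  have hm := ArtF85.isMiniversal_of_isUniversal R.universal
  letI := ArtF85.tangentStrOf (ArtF85.h0_of_isMiniversal hm) (ArtF85.heps_of_isMiniversal hm)
  obtain ⟨e⟩ := nonempty_tangent_linearEquiv (x := y) (normalEquiv i rfl)
    fun c m U z => normalEquiv_smul i rfl k y hi.symm c m U z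
  rw [← finrank_cotangent_pointRing H.hom h.left (point_comp h)]
  exact (Deform85.HullDim.finrank_cotangent_eq (⟨R.ring, R.family, hm⟩ : Hull (localHilb Y y i.ker))).trans e.finrank_eq

omit [DCoh.HasSheafHom (Omega.conormal i)] hH hh in
theorem finite_h1_normal [DCoh.HasSheafHom (Omega.conormal i)] :
    Module.Finite k (Coh.HH X (normalSheaf i) 1) := by
  haveI : IsProper (X ↘ Spec (CommRingCat.of k)) := by rw [← hi]; infer_instance
  haveI : IsLocallyNoetherian Y := LocallyOfFiniteType.isLocallyNoetherian y
  haveI : IsLocallyNoetherian X := LocallyOfFiniteType.isLocallyNoetherian (X ↘ Spec (CommRingCat.of k))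
  have hcon : Coh.IsCoh (Omega.conormal i) := by
    obtain ⟨h1, h2⟩ := Crv77.isCoh_idealMod i.ker
    exact ⟨QCPull72.isQuasicoherent_pullback _ _, QCPull72.isFiniteType_pullback _ _⟩
  exact Serre71.finite_hh_of_isProper k _
    (Crv77.isCoh_of_iso ((QC70.sheafHomIso _).app _).symm (QC70.isCoh_homMod hcon Crv77.isCoh_structureModule)) 1

variable (hloc : LocLiftable i.ker y)
include hloc

theorem hilb_estimates :
    (Module.finrank k (Coh.HH X (normalSheaf i) 0) : WithBot ℕ∞) ≤
        ringKrullDim (H.left.presheaf.stalk (pt h.left)) + (Module.finrank k (Coh.HH X (normalSheaf i) 1) : WithBot ℕ∞) ∧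
      (Module.finrank k (Coh.HH X (normalSheaf i) 1) = 0 → IsRegularLocalRing (H.left.presheaf.stalk (pt h.left)) ∧
        ringKrullDim (H.left.presheaf.stalk (pt h.left)) = (Module.finrank k (Coh.HH X (normalSheaf i) 0) : WithBot ℕ∞)) ∧
      (ringKrullDim (H.left.presheaf.stalk (pt h.left)) + (Module.finrank k (Coh.HH X (normalSheaf i) 1) : WithBot ℕ∞) =
          (Module.finrank k (Coh.HH X (normalSheaf i) 0) : WithBot ℕ∞) →
        Pi1.IsCompleteIntersection (H.left.presheaf.stalk (pt h.left))) := by
  haveI := hH.1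
  haveI : IsLocallyNoetherian Y := LocallyOfFiniteType.isLocallyNoetherian y
  haveI := finite_h1_normal y i hi
  let R := pointProRep y h Z hh hH
  obtain ⟨T⟩ := hasObsTheory (i := i) (x := y) hloc hi.symm
  obtain ⟨h1, h2, h3, h4⟩ := S12327.result _ T
    (⟨R.ring, R.family, ArtF85.isMiniversal_of_isUniversal R.universal⟩ : Hull (localHilb Y y i.ker))
  have hd : Module.finrank (ResidueField R.ring.carrier) (CotangentSpace R.ring.carrier) =
      Module.finrank k (Coh.HH X (normalSheaf i) 0) :=
    (finrank_cotangent_pointRing H.hom h.left (point_comp h)).trans (finrank_cotangent_hilb y i hi Z hH h hh)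
  rw [show ringKrullDim R.ring.carrier = _ from ringKrullDim_pointRing H.hom h.left (point_comp h), hd] at h1 h2 h4
  refine ⟨h2, fun h0 => ⟨(isRegularLocalRing_pointRing H.hom h.left (point_comp h)).2 (h3 h0), ?_⟩, fun heq => ?_⟩
  · rw [h0, Nat.cast_zero, add_zero] at h2
    exact le_antisymm h1 h2
  · obtain ⟨P, _, _, π, t, hπ, ht, hdim⟩ := h4 heq
    exact isCompleteIntersection_of_presentation (RingEquiv.refl R.ring.carrier) π hπ t ht
      (hdim.trans (congrArg (· + _) (ringKrullDim_pointRing H.hom h.left (point_comp h)).symm))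

end Groth.Agent.Hilb85
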