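import Groth.Agent.Hilb85.LocalPoint
import Groth.Agent.MS97.Hilb
import Groth.Agent.ArtF85.Hull

/-!
The completed local ring of the Hilbert scheme at a rational point pro-represents the local Hilbert functor.
-/

set_option autoImplicit false
set_option linter.style.haveILetI false
set_option backward.isDefEq.respectTransparency false
universe u

open CategoryTheory CategoryTheory.Limits AlgebraicGeometry IsLocalRing
open ArtFun ArtFun.Art

noncomputable section

namespace Groth.Agent.Hilb85

section Pull

variable {Y S : Scheme.{u}} (f : Y ⟶ S)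

theorem xtmap_fst {T T' : Over S} (g : T' ⟶ T) :
    PicF.XTmap f g ≫ pullback.fst f T.hom = pullback.fst f T'.hom :=
  (pullback.lift_fst _ _ _).trans (Category.comp_id _)

theorem xtmap_snd {T T' : Over S} (g : T' ⟶ T) :
    PicF.XTmap f g ≫ PicF.XTproj f T = PicF.XTproj f T' ≫ g.left :=
  pullback.lift_snd _ _ _

theorem xtmap_comp {T T' T'' : Over S} (g : T' ⟶ T) (g' : T'' ⟶ T') :
    PicF.XTmap f (g' ≫ g) = PicF.XTmap f g' ≫ PicF.XTmap f g := by
  apply pullback.hom_ext
  · rw [xtmap_fst, Category.assoc, xtmap_fst, xtmap_fst]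
  · rw [xtmap_snd, Category.assoc, xtmap_snd, ← Category.assoc, xtmap_snd, Over.comp_left, Category.assoc]

theorem isPullback_xtmap {T T' : Over S} (g : T' ⟶ T) :
    IsPullback (PicF.XTmap f g) (PicF.XTproj f T') (PicF.XTproj f T) g.left := by
  refine IsPullback.of_right ?_ (xtmap_snd f g) (IsPullback.of_hasPullback f T.hom)
  rw [xtmap_fst, Over.w g]
  exact IsPullback.of_hasPullback f T'.hom

theorem hilbPull_prop (P : MorphismProperty Scheme.{u}) [P.IsStableUnderBaseChange] {T T' : Over S} (g : T' ⟶ T)
    (I : (PicF.XT f T).IdealSheafData) (hI : P (I.subschemeι ≫ PicF.XTproj f T)) :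
    P ((FGA.hilbPull f g I).subschemeι ≫ PicF.XTproj f T') := by
  rw [MS97.hilbPull_eq_comap, ← Scheme.IdealSheafData.comapIso_hom_fst, Category.assoc]
  exact (MorphismProperty.cancel_left_of_respectsIso P (I.comapIso (PicF.XTmap f g)).hom _).2
    (MorphismProperty.of_isPullback
      (IsPullback.paste_vert (IsPullback.of_hasPullback (PicF.XTmap f g) I.subschemeι).flip
        (isPullback_xtmap f g)) hI)

/-- The pullback of an element of the Hilbert functor. -/
def hilbMap {T T' : Over S} (g : T' ⟶ T) (I : FGA.HilbSet f T) : FGA.HilbSet f T' :=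
  ⟨FGA.hilbPull f g I.1, hilbPull_prop f @IsProper g I.1 I.2.1, hilbPull_prop f @Flat g I.1 I.2.2⟩

end Pull

variable {k : Type u} [Field k] {Y : Scheme.{u}} (y : Y ⟶ specPt k) {H : Over (specPt k)}
  (h : Over.mk (𝟙 (specPt k)) ⟶ H)

theorem point_comp : h.left ≫ H.hom = 𝟙 _ := Over.w h

/-- A morphism centred at the point as a morphism over the field. -/
def overMor {A : Art k k} (g : PointMor H.hom h.left A) : Over.mk (specOver A) ⟶ H := Over.homMk g.1 g.2.1

/-- The inclusion of the closed point. -/
def closedIn (A : Art k k) : Over.mk (𝟙 (specPt k)) ⟶ Over.mk (specOver A) :=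
  Over.homMk (specRes A) (by
    show specRes A ≫ specMap (ofBase A) = 𝟙 _
    rw [specRes_comp]
    simpa using comp_specRes_base (𝟙 (specPt k)))

theorem xtmap_closedIn (A : Art k k) :
    PicF.XTmap y (closedIn A) = pullback.fst y (Over.mk (𝟙 (specPt k))).hom ≫ XAincl y A := by
  apply pullback.hom_ext
  · rw [xtmap_fst, Category.assoc]
    exact ((congrArg (_ ≫ ·) (XAincl_fst y A)).trans (Category.comp_id _)).symm
  · rw [xtmap_snd, Category.assoc]
    refine Eq.trans ?_ (congrArg (_ ≫ ·) (XAincl_snd y A)).symm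
    show pullback.snd y (𝟙 _) ≫ specRes A = _
    rw [← Category.assoc]
    exact congrArg (· ≫ specRes A) ((pullback.condition (f := y) (g := 𝟙 (specPt k))).trans (Category.comp_id _)).symm

variable {I₀ : Y.IdealSheafData} (Z : FGA.HilbSet y H)
  (hh : FGA.hilbPull y h Z.1 = I₀.comap (pullback.fst y (Over.mk (𝟙 (specPt k))).hom))

include hh in
theorem hilbPull_fibre {A : Art k k} (g : PointMor H.hom h.left A) :
    (FGA.hilbPull y (overMor h g) Z.1).comap (XAincl y A) = I₀ := by
  let e : Y ⟶ PicF.XT y (Over.mk (𝟙 (specPt k))) := pullback.lift (𝟙 Y) y rfl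
  have h1 : XAincl y A ≫ PicF.XTmap y (overMor h g) = e ≫ PicF.XTmap y h := by
    apply pullback.hom_ext
    · rw [Category.assoc, xtmap_fst, Category.assoc, xtmap_fst]
      exact (XAincl_fst y A).trans (pullback.lift_fst _ _ _).symm
    · rw [Category.assoc, xtmap_snd, Category.assoc, xtmap_snd, ← Category.assoc, ← Category.assoc]
      refine (congrArg (· ≫ g.1) (XAincl_snd y A)).trans ?_
      refine ((Category.assoc _ _ _).trans (congrArg (y ≫ ·) g.2.2)).trans ?_
      exact (congrArg (· ≫ h.left) (pullback.lift_snd _ _ _)).symm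
  rw [MS97.hilbPull_eq_comap, ← Scheme.IdealSheafData.comap_comp, h1, Scheme.IdealSheafData.comap_comp,
    ← MS97.hilbPull_eq_comap, hh, ← Scheme.IdealSheafData.comap_comp, pullback.lift_fst,
    Scheme.IdealSheafData.comap_id]

variable [IsLocallyNoetherian H.left]

omit [IsLocallyNoetherian H.left] in
theorem hilbPull_overMor_map {A B : Art k k} (f : A ⟶ B) (g : PointMor H.hom h.left A)
    (g' : PointMor H.hom h.left B) (hg : g'.1 = specMap f ≫ g.1) :
    FGA.hilbPull y (overMor h g') Z.1 = (FGA.hilbPull y (overMor h g) Z.1).comap (XAmap y f) := by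
  rw [MS97.hilbPull_eq_comap, MS97.hilbPull_eq_comap, ← Scheme.IdealSheafData.comap_comp]
  congr 1
  apply pullback.hom_ext
  · rw [Category.assoc, xtmap_fst, xtmap_fst]
    exact (XAmap_fst y f).symm
  · rw [Category.assoc, xtmap_snd, xtmap_snd, ← Category.assoc]
    refine Eq.trans ?_ (congrArg (· ≫ g.1) (XAmap_snd y f)).symm
    rw [Category.assoc]
    exact congrArg (_ ≫ ·) hg

/-- The universal family at the point. -/
def pointFamily : Family (pointRing H.hom h.left (point_comp h)).carrier (pointRing H.hom h.left (point_comp h)).res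
    (localHilb Y y I₀) where
  app A φ := ⟨FGA.hilbPull y (overMor h (toPointMor H.hom h.left (point_comp h) A φ)) Z.1,
    hilbPull_prop y @Flat (T' := Over.mk (specOver A)) _ Z.1 Z.2.2, hilbPull_fibre y h Z hh _⟩
  natural {A B} f φ := Subtype.ext
    (hilbPull_overMor_map y h Z f (toPointMor H.hom h.left (point_comp h) A φ)
      (toPointMor H.hom h.left (point_comp h) B (HomSet.map f φ)) (toPointMor_map H.hom h.left (point_comp h) f φ))

variable [IsProper y] (hH : FGA.HilbRepresentedBy y H Z)

include hH in
theorem isUniversal_pointFamily : IsUniversal (pointFamily y h Z hh) := fun A => by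
  haveI : IsLocallyNoetherian (Over.mk (specOver A)).left := by
    show IsLocallyNoetherian (spec A)
    infer_instance
  haveI : IsLocallyNoetherian (Over.mk (𝟙 (specPt k))).left := by
    show IsLocallyNoetherian (specPt k)
    infer_instance
  refine ⟨fun φ φ' e => ?_, fun I => ?_⟩
  · apply (toPointMor_bijective H.hom h.left (point_comp h) A).1
    have := (hH.2 _ (hilbMap y (overMor h (toPointMor H.hom h.left (point_comp h) A φ)) Z)).unique rfl
      (congrArg Subtype.val e).symm
    exact Subtype.ext (congrArg CommaMorphism.left this)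
  · have hp : IsProper (I.1.subschemeι ≫ XApr y A) := inferInstance
    obtain ⟨g, hg, -⟩ := hH.2 (Over.mk (specOver A)) ⟨I.1, hp, I.2.1⟩
    have hc : closedIn A ≫ g = h := by
      refine (hH.2 _ (hilbMap y h Z)).unique ?_ rfl
      show FGA.hilbPull y _ Z.1 = FGA.hilbPull y h Z.1
      rw [hh, MS97.hilbPull_eq_comap, xtmap_comp, Scheme.IdealSheafData.comap_comp, ← MS97.hilbPull_eq_comap y g, hg,
        xtmap_closedIn, Scheme.IdealSheafData.comap_comp, I.2.2]
    obtain ⟨φ, hφ⟩ := (toPointMor_bijective H.hom h.left (point_comp h) A).2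
      ⟨g.left, Over.w g, congrArg CommaMorphism.left hc⟩
    refine ⟨φ, Subtype.ext ?_⟩
    show FGA.hilbPull y (overMor h _) Z.1 = I.1
    rw [hφ]
    exact hg

/-- The completed local ring pro-represents the local Hilbert functor. -/
def pointProRep : ProRep (localHilb Y y I₀) :=
  ⟨pointRing H.hom h.left (point_comp h), pointFamily y h Z hh, isUniversal_pointFamily y h Z hh hH⟩

end Groth.Agent.Hilb85
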