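import Groth.Agent.Hilb85.LiftAlg
import Groth.Prelude.Def_CAlgX

/-!
An ideal generated by an `H₁`-regular sequence lifts flatly along nilpotent extensions: any lifts of
the generators generate a flat lift, and every flat lift arises in this way.
-/

set_option autoImplicit false
set_option linter.style.haveILetI false
universe u

open TensorProduct

namespace Groth.Agent.Hilb85.LiftAlg

variable {A' B' B₀ : Type u} [CommRing A'] [CommRing B'] [CommRing B₀] [Algebra A' B']
  {m : Ideal A'} {r : B' →+* B₀} {I₀ : Ideal B₀} {c : ℕ} {f : Fin c → B₀} {F : Fin c → B'}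

theorem exists_mem_map_coeff (hr : IsRed m r) (hf : CAlgX.IsH1Regular f) (hF : ∀ i, r (F i) = f i)
    {z : B'} (hz : z ∈ Ideal.span (Set.range F)) (hzm : z ∈ m.map (algebraMap A' B')) :
    ∃ a : Fin c → B', (∀ i, a i ∈ m.map (algebraMap A' B')) ∧ z = ∑ i, a i * F i := by
  classical
  obtain ⟨a, rfl⟩ := (Submodule.mem_span_range_iff_exists_fun B').1 hz
  simp only [smul_eq_mul]
  have h0 : ∑ i, r (a i) * f i = 0 := by
    have := RingHom.mem_ker.1 (hr.ker.symm ▸ hzm)
    simpa [hF] using this
  suffices h : ∀ v ∈ Submodule.span B₀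
      {v : Fin c → B₀ | ∃ i j : Fin c, v = Pi.single i (f j) - Pi.single j (f i)},
      ∃ w : Fin c → B', (∀ i, r (w i) = v i) ∧ ∑ i, w i * F i = 0 by
    obtain ⟨w, hw, hw0⟩ := h _ (hf _ h0)
    refine ⟨a - w, fun i => hr.ker ▸ RingHom.mem_ker.2 (by simp [hw i]), ?_⟩
    simp [sub_mul, hw0]
  intro v hv
  induction hv using Submodule.span_induction with
  | mem v hv =>
    obtain ⟨i, j, rfl⟩ := hv
    refine ⟨Pi.single i (F j) - Pi.single j (F i), fun l => ?_, ?_⟩
    · simp only [Pi.sub_apply, map_sub, Pi.single_apply, apply_ite r, hF, map_zero]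
    · simp [sub_mul, Pi.single_apply, ite_mul]
      ring
  | zero => exact ⟨0, by simp, by simp⟩
  | add v v' _ _ h h' =>
    obtain ⟨w, hw, hw0⟩ := h
    obtain ⟨w', hw', hw0'⟩ := h'
    exact ⟨w + w', fun i => by simp [hw, hw'], by simp [add_mul, Finset.sum_add_distrib, hw0, hw0']⟩
  | smul t v _ h =>
    obtain ⟨w, hw, hw0⟩ := h
    obtain ⟨t', rfl⟩ := hr.surjective t
    exact ⟨t' • w, fun i => by simp [hw], by simp [mul_assoc, ← Finset.mul_sum, hw0]⟩

/-- Lifts of a regular sequence of generators give a flat lift. -/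
theorem isLift_span [hm : m.IsMaximal] (hnil : IsNilpotent m) [Module.Flat A' B'] (hr : IsRed m r)
    (hf : CAlgX.IsH1Regular f) (hI : Ideal.span (Set.range f) = I₀) (hF : ∀ i, r (F i) = f i) :
    IsLift r I₀ A' (Ideal.span (Set.range F)) := by
  refine ⟨?_, by rw [Ideal.map_span, ← Set.range_comp, ← hI, show r ∘ F = f from funext hF]⟩
  let K : Ideal B' := Ideal.span (Set.range F)
  let π : B' →ₗ[A'] B' ⧸ K := (Ideal.Quotient.mkₐ A' K).toLinearMap
  refine FlatCrit65.flat_of_injective_of_isNilpotent hnil ?_ ?_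
  · rw [← LinearMap.ker_eq_bot, LinearMap.ker_eq_bot']
    intro z hz
    obtain ⟨w, rfl⟩ := LinearMap.rTensor_surjective (↥m) (g := π) Ideal.Quotient.mk_surjective z
    let μ : B' ⊗[A'] ↥m →ₗ[A'] B' := (TensorProduct.rid A' B').toLinearMap.comp (m.subtype.lTensor B')
    have hμ : Function.Injective μ := (TensorProduct.rid A' B').injective.comp
      (Module.Flat.lTensor_preserves_injective_linearMap m.subtype (Submodule.subtype_injective m))
    have hμt : ∀ (b : B') (a : ↥m), μ (b ⊗ₜ a) = b * algebraMap A' B' a := fun b a => by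
      simp [μ, Algebra.smul_def, mul_comm]
    have hwK : μ w ∈ K := by
      rw [← Ideal.Quotient.eq_zero_iff_mem]
      have h1 : ∀ v : B' ⊗[A'] ↥m, π (μ v) =
          TensorProduct.rid A' (B' ⧸ K) (m.subtype.lTensor (B' ⧸ K) (π.rTensor ↥m v)) := fun v => by
        induction v using TensorProduct.induction_on with
        | zero => simp
        | add a b ha hb => simp only [map_add, ha, hb]
        | tmul b a => simp [μ, π]
      show π (μ w) = 0
      rw [h1, hz, map_zero]
    have hwm : μ w ∈ m.map (algebraMap A' B') := by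
      clear hz hwK
      induction w using TensorProduct.induction_on with
      | zero => simp
      | add a b ha hb => rw [map_add]; exact add_mem ha hb
      | tmul b a => rw [hμt]; exact Ideal.mul_mem_left _ _ (Ideal.mem_map_of_mem _ a.2)
    obtain ⟨a, ha, hw⟩ := exists_mem_map_coeff hr hf hF hwK hwm
    have hex : ∀ y ∈ m.map (algebraMap A' B'), ∀ g ∈ K,
        ∃ v : B' ⊗[A'] ↥m, μ v = y * g ∧ π.rTensor ↥m v = 0 := by
      intro y hy g hg
      induction hy using Submodule.span_induction with
      | mem y hy =>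
        obtain ⟨t, ht, rfl⟩ := hy
        refine ⟨g ⊗ₜ ⟨t, ht⟩, by rw [hμt, mul_comm], ?_⟩
        rw [LinearMap.rTensor_tmul, show π g = 0 from Ideal.Quotient.eq_zero_iff_mem.2 hg, zero_tmul]
      | zero => exact ⟨0, by simp, by simp⟩
      | add y y' _ _ h h' =>
        obtain ⟨v, hv, hv0⟩ := h
        obtain ⟨v', hv', hv0'⟩ := h'
        exact ⟨v + v', by rw [map_add, hv, hv', add_mul], by rw [map_add, hv0, hv0', add_zero]⟩
      | smul t y _ h =>
        obtain ⟨v, hv, hv0⟩ := h
        refine ⟨(LinearMap.mulLeft A' t).rTensor ↥m v, ?_, ?_⟩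
        · rw [smul_eq_mul, mul_assoc, ← hv]
          clear hv hv0
          induction v using TensorProduct.induction_on with
          | zero => simp
          | add a b ha hb => simp only [map_add, ha, hb, mul_add]
          | tmul b a => simp [hμt, mul_assoc]
        · rw [← LinearMap.rTensor_comp_apply, show π ∘ₗ LinearMap.mulLeft A' t =
            (LinearMap.mulLeft A' (π t)) ∘ₗ π from LinearMap.ext fun b => map_mul (Ideal.Quotient.mk K) t b,
            LinearMap.rTensor_comp_apply, hv0, map_zero]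
    choose v hv hv0 using fun i => hex (a i) (ha i) (F i) (Ideal.subset_span ⟨i, rfl⟩)
    rw [show w = ∑ i, v i from hμ (by rw [map_sum, hw]; exact Finset.sum_congr rfl fun i _ => (hv i).symm), map_sum]
    exact Finset.sum_eq_zero fun i _ => hv0 i
  · letI := Ideal.Quotient.field m
    infer_instance

theorem IsLift.le_of_map_le (hnil : IsNilpotent m) (hr : IsRed m r) {I K : Ideal B'} (hI : IsLift r I₀ A' I)
    (hKI : K ≤ I) (hmap : I₀ ≤ K.map r) : I ≤ K := by
  let M := m.map (algebraMap A' B')
  have h : ∀ n : ℕ, I ≤ K ⊔ M ^ n * I := by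
    intro n
    induction n with
    | zero => simp
    | succ n ih =>
      refine ih.trans (sup_le le_sup_left ?_)
      rw [Ideal.mul_le]
      intro a ha x hx
      obtain ⟨k, hk, hkx⟩ := (Ideal.mem_map_iff_of_surjective r hr.surjective).1 (hmap (hI.mem_map hx))
      obtain ⟨p, t, z, ht, hz, hxz⟩ := hI.mem_smul_of_mem_map (m := m) (I.sub_mem hx (hKI hk))
        (hr.ker ▸ RingHom.mem_ker.2 (by rw [map_sub, hkx, sub_self]))
      rw [show a * x = a * k + a * (x - k) by rw [← mul_add, add_sub_cancel]]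
      refine Submodule.add_mem_sup (K.mul_mem_left _ hk) ?_
      rw [hxz, Finset.mul_sum, pow_succ]
      refine Ideal.sum_mem _ fun l _ => ?_
      rw [Algebra.smul_def, ← mul_assoc]
      exact Ideal.mul_mem_mul (Ideal.mul_mem_mul ha (Ideal.mem_map_of_mem _ (ht l))) (hz l)
  obtain ⟨n, hn⟩ := hnil
  have h2 := h n
  rwa [show M ^ n = ⊥ by
    rw [← Ideal.map_pow, hn]
    exact Ideal.map_bot, Ideal.bot_mul, sup_bot_eq] at h2

/-- A flat lift of an ideal generated by a regular sequence lifts further along a surjection. -/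
theorem exists_lift_of_h1 {A B : Type u} [CommRing A] [CommRing B] [Algebra A B] {mA : Ideal A} {s : B →+* B₀}
    [m.IsMaximal] (hnil : IsNilpotent m) [Module.Flat A' B'] (hr : IsRed m r)
    (hnilA : IsNilpotent mA) (hs : IsRed mA s)
    (g : B' →+* B) (hg : Function.Surjective g) (hsg : ∀ z, s (g z) = r z)
    (hf : CAlgX.IsH1Regular f) (hI : Ideal.span (Set.range f) = I₀)
    {I : Ideal B} (hlift : IsLift s I₀ A I) :
    ∃ K : Ideal B', IsLift r I₀ A' K ∧ K.map g = I := by
  choose G hG hGf using fun i => hlift.exists_preimage hs (y := f i) (hI ▸ Ideal.subset_span ⟨i, rfl⟩)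
  choose F hF using fun i => hg (G i)
  refine ⟨Ideal.span (Set.range F), isLift_span hnil hr hf hI fun i => by rw [← hsg, hF, hGf], ?_⟩
  rw [Ideal.map_span, ← Set.range_comp, show g ∘ F = G from funext hF]
  refine le_antisymm (Ideal.span_le.2 (Set.range_subset_iff.2 hG)) (hlift.le_of_map_le hnilA hs ?_ ?_)
  · exact Ideal.span_le.2 (Set.range_subset_iff.2 hG)
  · rw [Ideal.map_span, ← Set.range_comp, show s ∘ G = f from funext hGf, hI]

end Groth.Agent.Hilb85.LiftAlg
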