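import Groth.Agent.Hilb85.Fibre
import Groth.Agent.Hilb85.Glue
import Groth.Agent.Hilb85.RegLift

/-!
Local lifts of a family along a semismall extension, their differences, and gluing.
-/

set_option autoImplicit false
set_option linter.style.haveILetI false
set_option backward.isDefEq.respectTransparency false
universe u

open CategoryTheory CategoryTheory.Limits AlgebraicGeometry TopologicalSpace Opposite TensorProduct
open ArtFun ArtFun.Art

noncomputable section

namespace Groth.Agent.Hilb85

/-- Flatness of a quotient is preserved by a flat ring map. -/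
theorem flat_quotient_map {R B C : Type u} [CommRing R] [CommRing B] [CommRing C] [Algebra R B] [Algebra R C]
    [Algebra B C] [IsScalarTower R B C] [Module.Flat B C] (K : Ideal B) [Module.Flat R (B ⧸ K)] :
    Module.Flat R (C ⧸ K.map (algebraMap B C)) := by
  haveI : Module.Flat (B ⧸ K) (C ⧸ K.map (algebraMap B C)) := by
    have e : (B ⧸ K) ⊗[B] C ≃ₗ[B] C ⧸ K.map (algebraMap B C) :=
      (TensorProduct.quotTensorEquivQuotSMul C K).trans
        ((Submodule.quotEquivOfEq _ _ (Ideal.smul_top_eq_map K)).trans (Submodule.Quotient.restrictScalarsEquiv B _))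
    exact Module.Flat.of_linearEquiv (LinearEquiv.extendScalarsOfSurjective Ideal.Quotient.mk_surjective e).symm
  haveI : IsScalarTower R (B ⧸ K) (C ⧸ K.map (algebraMap B C)) := IsScalarTower.of_algebraMap_eq fun a => by
    show Ideal.Quotient.mk _ (algebraMap R C a) = Ideal.Quotient.mk _ (algebraMap B C (algebraMap R B a))
    rw [← IsScalarTower.algebraMap_apply]
  exact Module.Flat.trans R (B ⧸ K) _

variable {k : Type u} [Field k] {X : Scheme.{u}} {x : X ⟶ specPt k} {I₀ : X.IdealSheafData}
  {A' A : Art k k} {p : A' ⟶ A}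

theorem flat_res (B : Art k k) {U V : X.affineOpens} (h : V.1 ≤ U.1) : (res x B h).Flat := by
  have h1 := Flat.flat_appLE (𝟙 (XA x B)) (chart x B U).2 (chart x B V).2 ((proj x B).preimage_mono h)
  simp only [Scheme.Hom.appLE, Scheme.Hom.id_app] at h1
  exact h1

theorem map_red_res {B : Art k k} {U V : X.affineOpens} (h : V.1 ≤ U.1) {K : Ideal (sects x B U)}
    (hK : K.map (red x B U) = I₀.ideal U) : (K.map (res x B h)).map (red x B V) = I₀.ideal V := by
  rw [Ideal.map_map, show (red x B V).comp (res x B h) = (X.presheaf.map (homOfLE h).op).hom.comp (red x B U) from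
    RingHom.ext (res_red x B h), ← Ideal.map_map, hK]
  exact I₀.map_ideal h

theorem isLift_res {B : Art k k} {U V : X.affineOpens} (h : V.1 ≤ U.1) {K : Ideal (sects x B U)}
    (hK : LiftAlg.IsLift (red x B U) (I₀.ideal U) B.carrier K) :
    LiftAlg.IsLift (red x B V) (I₀.ideal V) B.carrier (K.map (res x B h)) := by
  refine ⟨?_, map_red_res h hK.map⟩
  letI : Algebra (sects x B U) (sects x B V) := (res x B h).toAlgebra
  haveI : IsScalarTower B.carrier (sects x B U) (sects x B V) :=
    IsScalarTower.of_algebraMap_eq fun a => (res_algebraMap x B h a).symm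
  haveI : Module.Flat (sects x B U) (sects x B V) := flat_res B h
  haveI := hK.flat
  exact flat_quotient_map (R := B.carrier) K

/-- A lift of the family on one affine chart. -/
structure LocLift (p : A' ⟶ A) (F : Fam I₀ x A) (U : X.affineOpens) : Type u where
  /-- the ideal -/
  ideal : Ideal (sects x A' U)
  lift : LiftAlg.IsLift (red x A' U) (I₀.ideal U) A'.carrier ideal
  map : ideal.map (gmap x p U) = F.ideal U

variable {F : Fam I₀ x A}

/-- Restriction of a local lift. -/
def LocLift.restrict {U V : X.affineOpens} (L : LocLift p F U) (h : V.1 ≤ U.1) : LocLift p F V where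
  ideal := L.ideal.map (res x A' h)
  lift := isLift_res h L.lift
  map := by
    rw [Ideal.map_map, show (gmap x p V).comp (res x A' h) = (res x A h).comp (gmap x p U) from
      RingHom.ext (res_gmap x p h), ← Ideal.map_map, L.map, F.compat h]

theorem LocLift.restrict_restrict {U V W : X.affineOpens} (L : LocLift p F U) (h : V.1 ≤ U.1) (h' : W.1 ≤ V.1) :
    ((L.restrict h).restrict h').ideal = (L.restrict (h'.trans h)).ideal := by
  show (L.ideal.map _).map _ = _
  rw [Ideal.map_map]
  congr 1
  exact RingHom.ext (res_res x A' h h')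

theorem LocLift.ideal_restrict_self {U : X.affineOpens} (L : LocLift p F U) (h : U.1 ≤ U.1) :
    (L.restrict h).ideal = L.ideal := by
  show L.ideal.map _ = _
  rw [show res x A' h = RingHom.id _ from by
    show ((XA x A').presheaf.map _).hom = _
    rw [show (homOfLE ((proj x A').preimage_mono h)).op = 𝟙 _ from rfl, (XA x A').presheaf.map_id]
    rfl, Ideal.map_id]

variable {ι : Type u} [Fintype ι] {e : ι → A'.carrier}
  (hp : Function.Surjective p)
  (he : LiftAlg.Small (RingHom.ker p.toAlgHom) (IsLocalRing.maximalIdeal A'.carrier) e)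

theorem LocLift.sameBase {U : X.affineOpens} (L L' : LocLift p F U) (hp : Function.Surjective p) :
    LiftAlg.SameBase (RingHom.ker p.toAlgHom) L.ideal L'.ideal :=
  (sameBase_iff hp _ _).1 (L.map.trans L'.map.symm)

/-- `a` is the difference of two local lifts over the affine opens in their overlap. -/
def IsLocDiff (e : ι → A'.carrier) {U U' : X.affineOpens} (L : LocLift p F U) (L' : LocLift p F U')
    (a : ι → HomFam I₀ (U.1 ⊓ U'.1)) : Prop :=
  ∀ (V : X.affineOpens) (hV : V.1 ≤ U.1 ⊓ U'.1), LiftAlg.IsDiff (red x A' V) e (tupleMap a V hV)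
    (L.restrict (hV.trans inf_le_left)).ideal (L'.restrict (hV.trans inf_le_right)).ideal

include hp he

theorem exists_locDiff {U U' : X.affineOpens} (L : LocLift p F U) (L' : LocLift p F U') :
    ∃ a : ι → HomFam I₀ (U.1 ⊓ U'.1), IsLocDiff e L L' a := by
  classical
  choose φ hφ using fun (V : X.affineOpens) (hV : V.1 ≤ U.1 ⊓ U'.1) => LiftAlg.exists_isDiff he (isRed x A' V)
    (L.restrict (hV.trans inf_le_left)).lift (L'.restrict (hV.trans inf_le_right)).lift (LocLift.sameBase _ _ hp)
  refine ⟨fun i => ⟨fun V hV => (LinearMap.proj i).comp (φ V hV), fun {V W} hV h y => ?_⟩, fun V hV z hz hz₀ => ?_⟩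
  · have hW : W.1 ≤ U.1 ⊓ U'.1 := h.trans hV
    have := (hφ V hV).map (B' := sects x A' V) (C' := sects x A' W) (e' := e) (κ := ι) he (isRed x A' W)
      (L'.restrict (hW.trans inf_le_right)).lift
      (RingHom.id A'.carrier) (res x A' h) (X.presheaf.map (homOfLE h).op).hom
      (res_algebraMap x A' h) (res_red x A' h) (fun l j => if l = j then 1 else 0)
      (fun j => by simp) (isRed x A' V) (L.restrict (hV.trans inf_le_left)).lift
      (LocLift.restrict_restrict L _ h).le (LocLift.restrict_restrict L' _ h).le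
      (I₀.ideal_le_comap_ideal h) (hφ W hW) y i
    refine (this : φ W hW (idealRes I₀ h y) i = _).trans ?_
    rw [Finset.sum_eq_single i (fun j _ hj => by simp [hj.symm]) (fun hi => absurd (Finset.mem_univ i) hi)]
    simp only [if_true, map_one, one_mul]
    rfl
  · exact hφ V hV z hz hz₀

theorem locDiff_cocycle {U₁ U₂ U₃ : X.affineOpens} {L₁ : LocLift p F U₁} {L₂ : LocLift p F U₂} {L₃ : LocLift p F U₃}
    {a : ι → HomFam I₀ (U₁.1 ⊓ U₂.1)} {b : ι → HomFam I₀ (U₂.1 ⊓ U₃.1)} {c : ι → HomFam I₀ (U₁.1 ⊓ U₃.1)}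
    (ha : IsLocDiff e L₁ L₂ a) (hb : IsLocDiff e L₂ L₃ b) (hc : IsLocDiff e L₁ L₃ c) (i : ι) (V : X.affineOpens)
    (h₁₂ : V.1 ≤ U₁.1 ⊓ U₂.1) (h₂₃ : V.1 ≤ U₂.1 ⊓ U₃.1) (h₁₃ : V.1 ≤ U₁.1 ⊓ U₃.1) :
    (c i).map V h₁₃ = (a i).map V h₁₂ + (b i).map V h₂₃ := by
  have hh := (hc V h₁₃).unique he (isRed x A' V) (L₁.restrict _).lift (L₃.restrict _).lift
    ((ha V h₁₂).trans he (L₁.restrict _).lift (hb V h₂₃) (LiftAlg.map_le_ker he (isRed x A' V)))
  exact LinearMap.ext fun y => congrFun (congrFun hh y) i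

omit hp he

theorem maximal_isNilpotent (B : Art k k) : IsNilpotent (IsLocalRing.maximalIdeal B.carrier) :=
  (IsArtinianRing.isNilpotent_jacobson_bot (R := B.carrier)) |>.elim fun n hn => ⟨n, by
    rwa [IsLocalRing.jacobson_eq_maximalIdeal _ bot_ne_top] at hn⟩

theorem HomFam.ext_top {U : X.affineOpens} {a b : HomFam I₀ U.1} (h : a.map U le_rfl = b.map U le_rfl) : a = b := by
  refine HomFam.ext (funext fun V => funext fun hV => LinearMap.ext fun y => ?_)
  obtain ⟨y, hy⟩ := y
  have key : ∀ z ∈ (I₀.ideal U).map (X.presheaf.map (homOfLE hV).op).hom,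
      ∀ hz : z ∈ I₀.ideal V, a.map V hV ⟨z, hz⟩ = b.map V hV ⟨z, hz⟩ := by
    intro z hz
    induction hz using Submodule.span_induction with
    | mem z hz =>
      obtain ⟨w, hw, rfl⟩ := hz
      intro hz'
      have ha := a.compat le_rfl hV ⟨w, hw⟩
      have hb := b.compat le_rfl hV ⟨w, hw⟩
      rw [h] at ha
      exact ha.trans hb.symm
    | zero => exact fun hz' => (map_zero (a.map V hV)).trans (map_zero (b.map V hV)).symm
    | add z z' hz hz' ih ih' =>
      intro h''
      rw [show (⟨z + z', h''⟩ : I₀.ideal V) = ⟨z, I₀.map_ideal hV ▸ hz⟩ + ⟨z', I₀.map_ideal hV ▸ hz'⟩ from rfl,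
        map_add, map_add, ih, ih']
    | smul t z hz ih =>
      intro h''
      rw [show (⟨t • z, h''⟩ : I₀.ideal V) = t • ⟨z, I₀.map_ideal hV ▸ hz⟩ from rfl, map_smul, map_smul, ih]
  exact key y ((I₀.map_ideal hV).symm ▸ hy) hy

theorem LocLift.exists_translate (hp : Function.Surjective p)
    (he : LiftAlg.Small (RingHom.ker p.toAlgHom) (IsLocalRing.maximalIdeal A'.carrier) e)
    {U : X.affineOpens} (L : LocLift p F U) (ε : ι → HomFam I₀ U.1) :
    ∃ L' : LocLift p F U, IsLocDiff e L L' (fun i => (ε i).mono inf_le_left) := by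
  obtain ⟨K, hK, hsame, hd⟩ := LiftAlg.exists_lift_isDiff he (isRed x A' U) L.lift (tupleMap ε U le_rfl)
  let L' : LocLift p F U := ⟨K, hK, ((sameBase_iff hp _ _).2 hsame).symm.trans L.map⟩
  obtain ⟨a, ha⟩ := exists_locDiff hp he L L'
  have h : tupleMap a U (le_inf le_rfl le_rfl) = tupleMap ε U le_rfl := by
    have h1 := ha U (le_inf le_rfl le_rfl)
    rw [L.ideal_restrict_self, L'.ideal_restrict_self] at h1
    exact DFunLike.coe_injective (h1.unique he (isRed x A' U) L.lift hK hd)
  refine ⟨L', ?_⟩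
  convert ha using 1
  funext i
  have h2 : (a i).mono (le_inf le_rfl le_rfl : U.1 ≤ U.1 ⊓ U.1) = ε i :=
    HomFam.ext_top (LinearMap.ext fun y => congrFun (LinearMap.congr_fun h y) i)
  rw [← h2]
  rfl

/-- An ideal sheaf from compatible local lifts. -/
theorem exists_lift_of_agree (u : (localHilb X x I₀).obj A) {σ : Type u} (U : σ → X.affineOpens)
    (hU : ∀ q : X, ∃ j, q ∈ (U j).1) (L : ∀ j, LocLift p (famEquiv A u) (U j))
    (agree : ∀ (j l : σ) (V : X.affineOpens) (hj : V.1 ≤ (U j).1) (hl : V.1 ≤ (U l).1),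
      ((L j).restrict hj).ideal = ((L l).restrict hl).ideal) :
    ∃ u' : (localHilb X x I₀).obj A', (localHilb X x I₀).map p u' = u := by
  classical
  let small : (XA x A').affineOpens → Prop := fun W => ∃ j, W.1 ≤ (chart x A' (U j)).1
  let K : ∀ W : (XA x A').affineOpens, small W → Ideal Γ(XA x A', W.1) := fun W hW =>
    (L hW.choose).ideal.map (resHom hW.choose_spec)
  have hind : ∀ (j l : σ) (W : (XA x A').affineOpens) (hj : W.1 ≤ (chart x A' (U j)).1)
      (hl : W.1 ≤ (chart x A' (U l)).1), (L j).ideal.map (resHom hj) = (L l).ideal.map (resHom hl) := by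
    intro j l W hj hl
    obtain ⟨V, rfl⟩ := exists_chart x A' W
    have hle : ∀ U' : X.affineOpens, (chart x A' V).1 ≤ (chart x A' U').1 → V.1 ≤ U'.1 := fun U' h' q hq =>
      (chart_incl x A' U').ge (h' ((chart_incl x A' V).le hq))
    exact agree j l V (hle _ hj) (hle _ hl)
  obtain ⟨I, hI⟩ := exists_idealSheaf (small := small) (fun h hV => ⟨hV.choose, h.trans hV.choose_spec⟩) (K := K)
    (fun {V W} h hV => by
      show ((L _).ideal.map (resHom _)).map (resHom h) = (L _).ideal.map (resHom _)
      rw [Ideal.map_map, show (resHom h).comp (resHom hV.choose_spec) = resHom (h.trans hV.choose_spec) from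
        RingHom.ext (resHom_resHom hV.choose_spec h)]
      exact hind _ _ _ _ _)
    (fun q => by
      obtain ⟨j, hj⟩ := hU (proj x A' q)
      exact ⟨chart x A' (U j), ⟨j, le_rfl⟩, hj⟩)
  have hIU : ∀ j, I.ideal (chart x A' (U j)) = (L j).ideal := fun j => by
    rw [hI _ ⟨j, le_rfl⟩]
    refine (hind _ j _ _ le_rfl).trans ?_
    exact (L j).ideal_restrict_self le_rfl
  have hcov : (⨆ j, (U j).1) = (⊤ : X.Opens) := top_le_iff.1 fun q _ => Opens.mem_iSup.2 (hU q)
  refine ⟨⟨I, (flatOver_iff_of_cover U hU).2 fun j => (hIU j).symm ▸ (L j).lift.flat,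
    Scheme.IdealSheafData.ext_of_iSup_eq_top U hcov fun j => by rw [ideal_comap_incl, hIU, (L j).lift.map]⟩, ?_⟩
  refine Subtype.ext (Scheme.IdealSheafData.ext_of_iSup_eq_top (fun j => chart x A (U j)) ?_ fun j => ?_)
  · exact top_le_iff.1 fun q _ => Opens.mem_iSup.2 (hU (proj x A q))
  · show (I.comap (XAmap x p)).ideal _ = _
    rw [ideal_map_gmap, hIU, (L j).map]
    rfl

include hp he

/-- Local lifts whose differences are coboundaries glue to a lift. -/
theorem exists_lift_of_split (u : (localHilb X x I₀).obj A) {σ : Type u} (U : σ → X.affineOpens)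
    (hU : ∀ q : X, ∃ j, q ∈ (U j).1) (L : ∀ j, LocLift p (famEquiv A u) (U j))
    (d : ∀ j l, ι → HomFam I₀ ((U j).1 ⊓ (U l).1)) (hd : ∀ j l, IsLocDiff e (L j) (L l) (d j l))
    (ε : ∀ j, ι → HomFam I₀ (U j).1)
    (hε : ∀ j l i, d j l i = (ε j i).mono inf_le_left - (ε l i).mono inf_le_right) :
    ∃ u' : (localHilb X x I₀).obj A', (localHilb X x I₀).map p u' = u := by
  choose L' hL' using fun j => (L j).exists_translate hp he (ε j)
  refine exists_lift_of_agree u U hU L' fun j l V hj hl => ?_
  obtain ⟨c, hc⟩ := exists_locDiff hp he (L' j) (L' l)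
  obtain ⟨g, hg⟩ := exists_locDiff hp he (L j) (L' l)
  have h0 : (tupleMap c V (le_inf hj hl) : I₀.ideal V → ι → _) = 0 := funext fun y => funext fun i => by
    have e1 := LinearMap.congr_fun (locDiff_cocycle hp he (hL' j) hc hg i V (le_inf hj hj) (le_inf hj hl) (le_inf hj hl)) y
    have e2 := LinearMap.congr_fun (locDiff_cocycle hp he (hd j l) (hL' l) hg i V (le_inf hj hl) (le_inf hl hl) (le_inf hj hl)) y
    rw [e1, hε j l i] at e2
    show (c i).map V _ y = 0
    simp only [sub_eq_add_neg, HomFam.add_map, HomFam.neg_map, LinearMap.add_apply, LinearMap.neg_apply] at e2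
    simpa [HomFam.mono] using e2
  have hc' := hc V (le_inf hj hl)
  rw [h0] at hc'
  let P := (L' j).restrict hj
  let Q := (L' l).restrict hl
  exact le_antisymm ((LiftAlg.IsDiff.self he).ext he (isRed x A' V) P.lift Q.lift (P.sameBase P hp) hc' P.lift)
    (hc'.ext he (isRed x A' V) Q.lift P.lift (P.sameBase Q hp) (LiftAlg.IsDiff.self he) P.lift)

end Groth.Agent.Hilb85
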