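import Groth.Prelude.Def_ArtFun2
import Groth.Prelude.Def_ArtFun6
import Groth.Agent.Cohen12.Completion
import Mathlib.AlgebraicGeometry.Stalk

/-!
The completed local ring of a rational point and the morphisms from Artinian local schemes centred at the point.
-/

set_option autoImplicit false
set_option linter.style.haveILetI false
set_option backward.isDefEq.respectTransparency false
universe u

open CategoryTheory CategoryTheory.Limits AlgebraicGeometry IsLocalRing
open ArtFun ArtFun.Art

noncomputable section

namespace Groth.Agent.Hilb85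

variable {k : Type u} [Field k]

theorem art_isNilpotent_maximal (A : Art k k) : IsNilpotent (maximalIdeal A.carrier) := by
  rw [← jacobson_eq_maximalIdeal (⊥ : Ideal A.carrier) bot_ne_top]
  exact IsArtinianRing.isNilpotent_jacobson_bot

theorem art_isAdicComplete (A : Art k k) : IsAdicComplete (maximalIdeal A.carrier) A.carrier := by
  obtain ⟨n, hn⟩ := art_isNilpotent_maximal A
  have hbot : ∀ m, n ≤ m → (maximalIdeal A.carrier ^ m • ⊤ : Submodule A.carrier A.carrier) = ⊥ := fun m hm => by
    rw [le_bot_iff.1 ((Ideal.pow_le_pow_right hm).trans hn.le), Submodule.bot_smul]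
  exact { haus' := fun z hz => by
            have := hz n
            rw [hbot n le_rfl, SModEq.bot] at this
            exact this
          prec' := fun f hf => ⟨f n, fun m => by
            rcases le_total m n with h | h
            · exact hf h
            · have := hf h
              rw [hbot n le_rfl, SModEq.bot] at this
              rw [this]⟩ }

section Complete

variable (O : Type u) [CommRing O] [IsLocalRing O] [IsNoetherianRing O] [Algebra k O]
  (r : O →ₐ[k] k) (hr : Function.Surjective r)

include hr in
omit [IsNoetherianRing O] in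
theorem ker_aug : RingHom.ker r = maximalIdeal O :=
  IsLocalRing.eq_maximalIdeal (RingHom.ker_isMaximal_of_surjective (r : O →+* k) hr)

include hr in
theorem exists_cplRes : ∃ g : AdicCompletion (maximalIdeal O) O →ₐ[k] k, ∀ a, g (algebraMap O _ a) = r a := by
  obtain ⟨g, hg⟩ := Cohen12.exists_extension O (S := k) (r : O →+* k) (by
    rw [Ideal.map_le_iff_le_comap]
    intro a ha
    rw [← ker_aug O r hr] at ha
    show r a ∈ maximalIdeal k
    rw [RingHom.mem_ker.1 ha]
    exact zero_mem _)
  have hc : ∀ c : k, g (algebraMap k _ c) = algebraMap k k c := fun c => by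
    rw [IsScalarTower.algebraMap_apply k O (AdicCompletion (maximalIdeal O) O), hg]
    exact r.commutes c
  exact ⟨{ g with commutes' := hc }, hg⟩

/-- The completed local ring. -/
def cplRing : CRing k k where
  carrier := AdicCompletion (maximalIdeal O) O
  isNoetherianRing := Cohen12.isNoetherianRing_completion O
  res := (exists_cplRes O r hr).choose
  res_surjective := fun c => let ⟨a, ha⟩ := hr c; ⟨_, ((exists_cplRes O r hr).choose_spec a).trans ha⟩
  isAdicComplete := Cohen12.isAdicComplete_completion O

theorem cplRes_algebraMap (a : O) : (cplRing O r hr).res (algebraMap O (AdicCompletion (maximalIdeal O) O) a) = r a :=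
  (exists_cplRes O r hr).choose_spec a

/-- Restricting to the local ring. -/
def cplRestrict (A : Art k k) (φ : HomSet (cplRing O r hr).carrier (cplRing O r hr).res A) :
    { ψ : O →ₐ[k] A.carrier // A.res.comp ψ = r } :=
  ⟨(φ.1 : AdicCompletion (maximalIdeal O) O →ₐ[k] A.carrier).comp
      (IsScalarTower.toAlgHom k O (AdicCompletion (maximalIdeal O) O)),
    AlgHom.ext fun a => (AlgHom.congr_fun φ.2 _).trans (cplRes_algebraMap O r hr a)⟩

theorem cplRestrict_injective (A : Art k k) : Function.Injective (cplRestrict O r hr A) := by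
  intro φ φ' h
  apply Subtype.ext
  refine AlgHom.ext fun (c : AdicCompletion (maximalIdeal O) O) => ?_
  obtain ⟨n, hn⟩ := art_isNilpotent_maximal A
  obtain ⟨a, ha⟩ := Cohen12.exists_sub_mem_pow O n c
  have key : ∀ ψ : HomSet (cplRing O r hr).carrier (cplRing O r hr).res A, ψ.1 c = ψ.1 (algebraMap O (AdicCompletion (maximalIdeal O) O) a) := fun ψ => by
    rw [← sub_eq_zero, ← map_sub]
    have hle : (maximalIdeal (AdicCompletion (maximalIdeal O) O)).map
        (ψ.1 : AdicCompletion (maximalIdeal O) O →ₐ[k] A.carrier) ≤ maximalIdeal A.carrier := by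
      rw [Ideal.map_le_iff_le_comap]
      intro z hz
      rw [Ideal.mem_comap, mem_maximalIdeal_iff]
      refine (AlgHom.congr_fun ψ.2 z).trans ?_
      exact RingHom.mem_ker.1 ((ker_aug (cplRing O r hr).carrier (cplRing O r hr).res
        (cplRing O r hr).res_surjective).ge hz)
    have h2 := Ideal.mem_map_of_mem (ψ.1 : AdicCompletion (maximalIdeal O) O →ₐ[k] A.carrier) ha
    rw [Ideal.map_pow] at h2
    simpa [hn] using Ideal.pow_right_mono hle n h2
  rw [key φ, key φ']
  exact AlgHom.congr_fun (congrArg Subtype.val h) a

theorem cplRestrict_bijective (A : Art k k) : Function.Bijective (cplRestrict O r hr A) := by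
  refine ⟨cplRestrict_injective O r hr A, fun ψ => ?_⟩
  haveI := art_isAdicComplete A
  obtain ⟨g, hg⟩ := Cohen12.exists_extension O (S := A.carrier) (ψ.1 : O →+* A.carrier) (by
    rw [Ideal.map_le_iff_le_comap]
    intro a ha
    rw [← ker_aug O r hr] at ha
    rw [Ideal.mem_comap, mem_maximalIdeal_iff]
    exact (AlgHom.congr_fun ψ.2 a).trans ha)
  have hgc : ∀ c : k, g (algebraMap k _ c) = algebraMap k A.carrier c := fun c => by
    rw [IsScalarTower.algebraMap_apply k O (AdicCompletion (maximalIdeal O) O), hg]
    exact ψ.1.commutes c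
  let g' : AdicCompletion (maximalIdeal O) O →ₐ[k] A.carrier := { g with commutes' := hgc }
  have hres : ∀ c, A.res (g' c) = (cplRing O r hr).res c := fun c => by
    obtain ⟨a, ha⟩ := Cohen12.exists_sub_mem_pow O 1 c
    rw [pow_one] at ha
    have h1 : A.res (g' (algebraMap O _ a)) = r a := (congrArg A.res (hg a)).trans (AlgHom.congr_fun ψ.2 a)
    have h2 : ∀ (f : AdicCompletion (maximalIdeal O) O →ₐ[k] k), Function.Surjective f →
        f c = f (algebraMap O _ a) := fun f hf => by
      rw [← sub_eq_zero, ← map_sub, ← RingHom.mem_ker, ker_aug _ f hf]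
      exact ha
    have h3 : Function.Surjective (A.res.comp g') := fun t => ⟨algebraMap k _ t, by
      rw [AlgHom.commutes]; rfl⟩
    exact ((h2 _ h3).trans h1).trans
      ((cplRes_algebraMap O r hr a).symm.trans (h2 _ (cplRing O r hr).res_surjective).symm)
  exact ⟨⟨g', AlgHom.ext hres⟩, Subtype.ext (AlgHom.ext hg)⟩

end Complete

section Point

variable {H : Scheme.{u}} (s : H ⟶ specPt k) (h : specPt k ⟶ H) (hh : h ≫ s = 𝟙 _)

/-- The rational point. -/
abbrev pt : H := h.base (closedPoint k)

/-- The structure map of the local ring at the point. -/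
def stalkStr : CommRingCat.of k ⟶ H.presheaf.stalk (pt h) :=
  Spec.preimage (H.fromSpecStalk (pt h) ≫ s)

theorem map_stalkStr : Spec.map (stalkStr s h) = H.fromSpecStalk (pt h) ≫ s := Spec.map_preimage _

/-- The algebra structure on the local ring. -/
@[reducible] def stalkAlg : Algebra k (H.presheaf.stalk (pt h)) := (stalkStr s h).hom.toAlgebra

include hh in
theorem stalkStr_closedPointTo : stalkStr s h ≫ Scheme.stalkClosedPointTo h = 𝟙 _ := by
  apply Spec.map_injective
  rw [Spec.map_comp, map_stalkStr, Spec.map_id, ← Category.assoc]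
  exact (congrArg (· ≫ s) (Scheme.Spec_stalkClosedPointTo_fromSpecStalk h)).trans hh

/-- The augmentation of the local ring. -/
def stalkRes : letI := stalkAlg s h; H.presheaf.stalk (pt h) →ₐ[k] k :=
  letI := stalkAlg s h
  { (Scheme.stalkClosedPointTo h).hom with
    commutes' := fun c => congrArg (fun f : CommRingCat.of k ⟶ CommRingCat.of k => f.hom c)
      (stalkStr_closedPointTo s h hh) }

theorem stalkRes_surjective : Function.Surjective (stalkRes s h hh) := fun c =>
  ⟨_, congrArg (fun f : CommRingCat.of k ⟶ CommRingCat.of k => f.hom c) (stalkStr_closedPointTo s h hh)⟩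

variable [IsLocallyNoetherian H]

/-- The completed local ring at the point. -/
def pointRing : CRing k k :=
  letI := stalkAlg s h
  cplRing (H.presheaf.stalk (pt h)) (stalkRes s h hh) (stalkRes_surjective s h hh)

/-- Morphisms centred at the point. -/
def PointMor (A : Art k k) : Type u :=
  { g : spec A ⟶ H // g ≫ s = specOver A ∧ specRes A ≫ g = h }

/-- The morphism of a homomorphism. -/
def toPointMor (A : Art k k) (φ : HomSet (pointRing s h hh).carrier (pointRing s h hh).res A) :
    PointMor s h A :=
  letI := stalkAlg s h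
  let ψ := cplRestrict _ (stalkRes s h hh) (stalkRes_surjective s h hh) A φ
  ⟨Spec.map (CommRingCat.ofHom ψ.1.toRingHom) ≫ H.fromSpecStalk (pt h), by
    refine ⟨?_, ?_⟩
    · rw [Category.assoc, ← map_stalkStr, ← Spec.map_comp]
      exact congrArg Spec.map (CommRingCat.hom_ext (RingHom.ext fun c => ψ.1.commutes c))
    · show Spec.map _ ≫ _ = h
      rw [← Category.assoc, ← Spec.map_comp]
      refine Eq.trans ?_ (Scheme.Spec_stalkClosedPointTo_fromSpecStalk h)
      congr 2
      exact CommRingCat.hom_ext (congrArg AlgHom.toRingHom ψ.2)⟩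

omit [IsLocallyNoetherian H] in
theorem exists_stalk_hom {R : CommRingCat.{u}} [IsLocalRing R] (g : Spec R ⟶ H) {p : H}
    (hg : g.base (closedPoint R) = p) : ∃ φ : H.presheaf.stalk p ⟶ R, Spec.map φ ≫ H.fromSpecStalk p = g := by
  subst hg
  exact ⟨_, Scheme.Spec_stalkClosedPointTo_fromSpecStalk g⟩

theorem toPointMor_bijective (A : Art k k) : Function.Bijective (toPointMor s h hh A) := by
  letI := stalkAlg s h
  refine ⟨fun φ φ' e => ?_, fun g => ?_⟩
  · apply (cplRestrict_bijective _ (stalkRes s h hh) (stalkRes_surjective s h hh) A).1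
    have e' := Spec.map_injective ((cancel_mono (H.fromSpecStalk (pt h))).1 (congrArg Subtype.val e))
    exact Subtype.ext (AlgHom.ext fun a => congrArg (fun f : H.presheaf.stalk (pt h) ⟶ CommRingCat.of A.carrier => f.hom a) e')
  · obtain ⟨g, hg1, hg2⟩ := g
    have hc : g.base (closedPoint A.carrier) = pt h := by
      rw [show pt h = (specRes A ≫ g).base (closedPoint k) by rw [hg2]]
      show _ = g.base ((specRes A).base (closedPoint k))
      congr 1
      haveI : IsLocalHom A.res.toRingHom := IsLocalHom.of_surjective _ A.res_surjective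
      exact (IsLocalRing.comap_closedPoint A.res.toRingHom).symm
    obtain ⟨φ, hφ⟩ := exists_stalk_hom (R := CommRingCat.of A.carrier) g hc
    have hk : stalkStr s h ≫ φ = CommRingCat.ofHom (algebraMap k A.carrier) := by
      apply Spec.map_injective
      rw [Spec.map_comp, map_stalkStr, ← Category.assoc, hφ, hg1]
      rfl
    let φ' : H.presheaf.stalk (pt h) →ₐ[k] A.carrier := { φ.hom with
      commutes' := fun c => congrArg (fun f : CommRingCat.of k ⟶ CommRingCat.of A.carrier => f.hom c) hk }
    have hres : φ ≫ CommRingCat.ofHom A.res.toRingHom = Scheme.stalkClosedPointTo h := by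
      apply Spec.map_injective
      apply (cancel_mono (H.fromSpecStalk (pt h))).1
      rw [Spec.map_comp, Category.assoc, hφ, Scheme.Spec_stalkClosedPointTo_fromSpecStalk]
      exact hg2
    obtain ⟨Φ, hΦ⟩ := (cplRestrict_bijective _ (stalkRes s h hh) (stalkRes_surjective s h hh) A).2
      ⟨φ', AlgHom.ext fun a => congrArg (fun f : H.presheaf.stalk (pt h) ⟶ CommRingCat.of k => f.hom a) hres⟩
    refine ⟨Φ, Subtype.ext ?_⟩
    show Spec.map _ ≫ _ = g
    rw [hΦ]
    exact hφ

theorem toPointMor_map {A B : Art k k} (f : A ⟶ B)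
    (φ : HomSet (pointRing s h hh).carrier (pointRing s h hh).res A) :
    (toPointMor s h hh B (HomSet.map f φ)).1 = specMap f ≫ (toPointMor s h hh A φ).1 := by
  show Spec.map _ ≫ _ = Spec.map _ ≫ Spec.map _ ≫ _
  rw [← Category.assoc, ← Spec.map_comp]
  rfl

end Point

end Groth.Agent.Hilb85
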