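import Groth.Agent.Lift3.Cocycle
import Groth.Agent.QC70.HomLocFree

/-!
Cocycles of local morphisms `M → N` split when `H¹` of the sheaf Hom vanishes.
-/

set_option autoImplicit false
set_option linter.style.haveILetI false
set_option backward.isDefEq.respectTransparency.types false
universe u

open CategoryTheory CategoryTheory.Limits AlgebraicGeometry TopologicalSpace Opposite

noncomputable section

namespace Groth.Agent.Hilb85

open Groth.Agent QC70 Lift3

variable {X : Scheme.{u}}

/-- Every one-cocycle of local morphisms `M → N` on a cover is a coboundary. -/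
def CocyclesSplit (M N : X.Modules) : Prop :=
  ∀ {σ : Type u} (W : σ → X.Opens) (δ : ∀ i j, HomOn M N (W i ⊓ W j)), (∀ x : X, ∃ i, x ∈ W i) →
    Cocycle.IsCocycle W δ → ∃ ε : ∀ i, HomOn M N (W i), ∀ i j,
      δ i j = (ε j).mono inf_le_right - (ε i).mono inf_le_left

theorem HomOn.sub_app {M N : X.Modules} {U : X.Opens} (φ ψ : HomOn M N U) {W : X.Opens} (hW : W ≤ U)
    (s : Γ(M, W)) : (φ - ψ).app W hW s = φ.app W hW s - ψ.app W hW s := by
  rw [sub_eq_add_neg, HomOn.add_app, HomOn.neg_app, sub_eq_add_neg]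
  rfl

theorem cocyclesSplit_of_ext [HasExt.{u} X.Modules] {M N : X.Modules}
    (h1 : Subsingleton (Abelian.Ext.{u} M N 1)) : CocyclesSplit M N := by
  intro σ W δ hW hδ
  obtain ⟨ε, hε⟩ := Cocycle.exists_eq_sub W δ h1 hW hδ
  refine ⟨ε, fun i j => HomOn.ext' fun V hV s => ?_⟩
  rw [HomOn.sub_app]
  exact hε i j V hV s

/-- A section as a local morphism out of the structure sheaf. -/
def sectHom {N : X.Modules} {U : X.Opens} (s : Γ(N, U)) : HomOn (Coh.structureModule X) N U where
  app W hW :=
    { toFun := fun a => (show Γ(X, W) from a) • res N hW s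
      map_add' := fun a b => add_smul (show Γ(X, W) from a) (show Γ(X, W) from b) _
      map_smul' := fun r a => mul_smul r (show Γ(X, W) from a) _ }
  app_res {W W'} hW h a := by
    show (resO X h (show Γ(X, W) from a)) • res N (h.trans hW) s = res N h ((show Γ(X, W) from a) • res N hW s)
    rw [res_smul, res_res]

theorem sectHom_app_one {N : X.Modules} {U : X.Opens} (s : Γ(N, U)) {W : X.Opens} (hW : W ≤ U) :
    (sectHom s).app W hW (toUnit (1 : Γ(X, W))) = res N hW s := one_smul _ _

theorem cocyclesSplit_of_hh [HasExt.{u} X.Modules] {M N : X.Modules} [DCoh.HasSheafHom M]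
    (h1 : Subsingleton (Coh.HH X ((DCoh.sheafHom M).obj N) 1)) : CocyclesSplit M N := by
  let H := (DCoh.sheafHom M).obj N
  let e : H ≅ homMod M N := (sheafHomIso M).app N
  have hinv : ∀ (U : X.Opens) (z : Γ(homMod M N, U)), e.hom.app U (e.inv.app U z) = z := fun U z =>
    congr($(congrArg (fun f => Scheme.Modules.Hom.app f U) e.inv_hom_id) z)
  have hExt : Subsingleton (Abelian.Ext.{u} (Coh.structureModule X) H 1) :=
    (SiteMod.unitExtEquiv (J := Opens.grothendieckTopology X) X.ringCatSheaf H 1).toEquiv.subsingleton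
  intro σ W δ hW hδ
  let δ' : ∀ i j, HomOn (Coh.structureModule X) H (W i ⊓ W j) :=
    fun i j => sectHom (e.inv.app _ (δ i j).toSec)
  have hδ' : Cocycle.IsCocycle W δ' := fun i j l V hij hjl hil a => by
    show (show Γ(X, V) from a) • res H hil (e.inv.app _ (δ i l).toSec) =
      (show Γ(X, V) from a) • res H hij (e.inv.app _ (δ i j).toSec) + (show Γ(X, V) from a) • res H hjl (e.inv.app _ (δ j l).toSec)
    rw [← smul_add, ← app_res, ← app_res, ← app_res, ← map_add]
    congr 2
    exact HomOn.ext' fun V' hV' s => hδ i j l V' (hV'.trans hij) (hV'.trans hjl) (hV'.trans hil) s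
  obtain ⟨ε, hε⟩ := cocyclesSplit_of_ext hExt W δ' hW hδ'
  refine ⟨fun i => ofSec (e.hom.app (W i) ((ε i).app (W i) le_rfl (toUnit 1))), fun i j => ?_⟩
  have h := congrArg (fun φ : HomOn (Coh.structureModule X) H (W i ⊓ W j) =>
    e.hom.app (W i ⊓ W j) (φ.app _ le_rfl (toUnit 1))) (hε i j)
  simp only [δ', sectHom_app_one, res_self, hinv, HomOn.sub_app, map_sub] at h
  have hres : ∀ l (hl : W i ⊓ W j ≤ W l), e.hom.app (W i ⊓ W j) (((ε l).mono hl).app _ le_rfl (toUnit 1)) =
      res (homMod M N) hl (e.hom.app (W l) ((ε l).app (W l) le_rfl (toUnit 1))) := fun l hl => by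
    rw [← app_res, ← (ε l).app_res le_rfl hl, show res (Coh.structureModule X) hl (toUnit (1 : Γ(X, W l))) =
      toUnit (1 : Γ(X, W i ⊓ W j)) from (res_unit hl _).trans (congrArg toUnit (map_one _))]
    rfl
  rw [hres j inf_le_right, hres i inf_le_left] at h
  exact h

end Groth.Agent.Hilb85
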