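import Groth.Agent.Hilb85.PullFam
import Groth.Agent.Hilb85.SplitH1
import Groth.Agent.Div89.KoszulH1
import Groth.Prelude.Def_Mor2

/-!
Lifting in the local Hilbert functor when local lifts exist and cocycles of the normal sheaf split.
-/

set_option autoImplicit false
set_option linter.style.haveILetI false
set_option backward.isDefEq.respectTransparency false
universe u

open CategoryTheory CategoryTheory.Limits AlgebraicGeometry TopologicalSpace Opposite
open ArtFun ArtFun.Art

noncomputable section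

namespace Groth.Agent.Hilb85

open QC70 Lift3

variable {k : Type u} [Field k] {X : Scheme.{u}} {x : X ⟶ specPt k}

/-- Lifts exist near every point. -/
def LocLiftable (I₀ : X.IdealSheafData) (x : X ⟶ specPt k) : Prop :=
  ∀ {A' A : Art k k} (p : A' ⟶ A), IsSemismallExt p → ∀ F : Fam I₀ x A, ∀ q : X,
    ∃ U : X.affineOpens, q ∈ U.1 ∧ Nonempty (LocLift p F U)

/-- Around every point the ideal is generated by an `H₁`-regular sequence. -/
def IsH1Cover (I₀ : X.IdealSheafData) : Prop :=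
  ∀ q : X, ∃ U : X.affineOpens, q ∈ U.1 ∧ ∃ (c : ℕ) (f : Fin c → Γ(X, U.1)),
    CAlgX.IsH1Regular f ∧ Ideal.span (Set.range f) = I₀.ideal U

theorem flat_sects' (A : Art k k) (U : X.affineOpens) : Module.Flat A.carrier (sects x A U) :=
  flat_sects x A U

theorem IsH1Cover.locLiftable {I₀ : X.IdealSheafData} (h : IsH1Cover I₀) : LocLiftable I₀ x := by
  intro A' A p hp F q
  obtain ⟨U, hq, c, f, hf, hI⟩ := h q
  haveI := flat_sects' (x := x) A' U
  haveI : (IsLocalRing.maximalIdeal A'.carrier).IsMaximal := IsLocalRing.maximalIdeal.isMaximal _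
  obtain ⟨K, hK, hKF⟩ := LiftAlg.exists_lift_of_h1 (maximal_isNilpotent A') (isRed x A' U) (maximal_isNilpotent A)
    (isRed x A U) (gmap x p U) (surjective_gmap x p hp.1 U) (red_gmap x p U) hf hI (F.lift U)
  exact ⟨U, hq, ⟨⟨K, hK, hKF⟩⟩⟩

/-- A sequence of kind regular or Koszul-regular on every chart of the support gives an `H₁`-cover. -/
theorem isH1Cover_of_support {I₀ : X.IdealSheafData}
    (h : ∀ q ∈ I₀.support, ∃ U : X.affineOpens, q ∈ U.1 ∧ ∃ rs : List Γ(X, U.1),
      CAlgX.IsH1Regular rs.get ∧ I₀.ideal U = Ideal.ofList rs) : IsH1Cover I₀ := by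
  intro q
  by_cases hq : q ∈ I₀.support
  · obtain ⟨U, hqU, rs, hrs, hI⟩ := h q hq
    exact ⟨U, hqU, _, rs.get, hrs, by rw [hI, Ideal.ofList, Set.range_list_get]⟩
  · obtain ⟨_, ⟨V, hV, rfl⟩, hqV, -⟩ := X.isBasis_affineOpens.exists_subset_of_mem_open (Set.mem_univ q) isOpen_univ
    have h1 : q ∉ X.zeroLocus (U := V) (I₀.ideal ⟨V, hV⟩) := fun hz =>
      hq (I₀.zeroLocus_inter_subset_supportSet ⟨V, hV⟩ ⟨hz, hqV⟩)
    rw [Scheme.mem_zeroLocus_iff] at h1
    push Not at h1
    obtain ⟨s, hs, hqs⟩ := h1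
    let W := X.affineBasicOpen (U := ⟨V, hV⟩) s
    have htop : I₀.ideal W = ⊤ := by
      have hu : IsUnit (resHom (X.affineBasicOpen_le (V := ⟨V, hV⟩) s) s) := RingedSpace.isUnit_res_basicOpen _ s
      refine Ideal.eq_top_of_isUnit_mem _ ?_ hu
      rw [← I₀.map_ideal (X.affineBasicOpen_le (V := ⟨V, hV⟩) s)]
      exact Ideal.mem_map_of_mem _ hs
    refine ⟨W, hqs, 1, fun _ => 1, fun a ha => ?_, by simp [htop]⟩
    have : a = 0 := funext fun i => by simpa [Fin.eq_zero i] using ha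
    rw [this]
    exact Submodule.zero_mem _

theorem IsH1Cover.of_regularIdeal {I₀ : X.IdealSheafData} (h : RegImm.IsRegularIdeal RegImm.Kind.koszul I₀) :
    IsH1Cover I₀ :=
  isH1Cover_of_support fun q hq => by
    obtain ⟨U, hU, rs, hrs, hI⟩ := h q hq
    exact ⟨U, hU, rs, Div89.isH1Regular_of_koszul rs hrs, hI⟩

theorem IsH1Cover.of_regularImmersion {Z : Scheme.{u}} {i : Z ⟶ X} (h : Mor2.IsRegularClosedImmersion i) :
    IsH1Cover i.ker :=
  isH1Cover_of_support fun q hq => by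
    haveI := h.1
    obtain ⟨z, rfl⟩ : q ∈ Set.range i := by
      have : q ∈ (i.ker.support : Set X) := hq
      rw [Scheme.Hom.support_ker, i.isClosedEmbedding.isClosed_range.closure_eq] at this
      exact this
    obtain ⟨U, hU, hz, rs, hrs, hI⟩ := h.2 z
    exact ⟨⟨U, hU⟩, hz, rs, Div89.isH1Regular_of_koszul rs ((Div89.seq_implications rs).1 hrs), hI⟩

variable [IsLocallyNoetherian X]

/-- Local lifts and splitting of cocycles give surjectivity. -/
theorem surjective_of_split {Z : Scheme.{u}} (i : Z ⟶ X) [IsClosedImmersion i] (hloc : LocLiftable i.ker x)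
    (hsplit : CocyclesSplit (Omega.conormal i) (Coh.structureModule Z))
    {A' A : Art k k} (p : A' ⟶ A) (hp : IsSemismallExt p) :
    Function.Surjective ((localHilb X x i.ker).map p) := by
  intro u
  choose U hU L using hloc p hp (famEquiv A u)
  replace L := fun q => (L q).some
  obtain ⟨ι, _, e, he, -⟩ := exists_coords p hp
  choose d hd using fun q q' => exists_locDiff hp.1 he (L q) (L q')
  let W : X → Z.Opens := fun q => i ⁻¹ᵁ (U q).1
  let δ : ι → ∀ q q', HomOn (Omega.conormal i) (Coh.structureModule Z) (W q ⊓ W q') := fun c q q' =>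
    (pullFamEquiv i ((U q).1 ⊓ (U q').1)).symm (d q q' c)
  have hδ : ∀ c q q', pullFam i ((U q).1 ⊓ (U q').1) (δ c q q') = d q q' c := fun c q q' =>
    (pullFamEquiv i _).apply_symm_apply (d q q' c)
  have hcoc : ∀ c, Cocycle.IsCocycle W (δ c) := by
    intro c q₁ q₂ q₃ V h12 h23 h13 s
    let P := (U q₁).1 ⊓ (U q₂).1 ⊓ (U q₃).1
    have hV : V ≤ i ⁻¹ᵁ P := le_inf h12 (h13.trans inf_le_right)
    have key : (δ c q₁ q₃).mono (i.preimage_mono (inf_le_inf_right _ inf_le_left : P ≤ (U q₁).1 ⊓ (U q₃).1)) =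
        (δ c q₁ q₂).mono (i.preimage_mono (inf_le_left : P ≤ (U q₁).1 ⊓ (U q₂).1)) +
        (δ c q₂ q₃).mono (i.preimage_mono (inf_le_inf_right _ inf_le_right : P ≤ (U q₂).1 ⊓ (U q₃).1)) := by
      apply pullFam_injective i
      rw [map_add, pullFam_mono i (inf_le_inf_right _ inf_le_left : P ≤ (U q₁).1 ⊓ (U q₃).1),
        pullFam_mono i (inf_le_left : P ≤ (U q₁).1 ⊓ (U q₂).1),
        pullFam_mono i (inf_le_inf_right _ inf_le_right : P ≤ (U q₂).1 ⊓ (U q₃).1), hδ, hδ, hδ]
      exact HomFam.ext (funext fun V' => funext fun hV' =>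
        locDiff_cocycle hp.1 he (hd q₁ q₂) (hd q₂ q₃) (hd q₁ q₃) c V' _ _ _)
    exact LinearMap.congr_fun (congrFun (congrFun (congrArg HomOn.app key) V) hV) s
  choose ε hε using fun c => hsplit W (δ c) (fun z => ⟨i z, hU (i z)⟩) (hcoc c)
  refine exists_lift_of_split hp.1 he u U (fun q => ⟨q, hU q⟩) L d hd
    (fun q c => - pullFam i (U q).1 (ε c q)) fun q q' c => ?_
  rw [← hδ, hε c q q']
  refine (map_sub (pullFam i _) _ _).trans ?_
  rw [pullFam_mono i (inf_le_right : (U q).1 ⊓ (U q').1 ≤ (U q').1),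
    pullFam_mono i (inf_le_left : (U q).1 ⊓ (U q').1 ≤ (U q).1)]
  refine HomFam.ext (funext fun V => funext fun hV => ?_)
  simp only [HomFam.mono, sub_eq_add_neg, HomFam.add_map, HomFam.neg_map]
  abel

end Groth.Agent.Hilb85
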