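import Groth.Agent.Hilb85.LocalLift
import Groth.Agent.SchBasics.PullSpan
import Groth.Agent.QC70.HomCoh
import Groth.Agent.Crv77.Degree

/-!
Local morphisms out of the conormal sheaf into `O_Z` over `i⁻¹ P` are the compatible families over `P`.
-/

set_option autoImplicit false
set_option linter.style.haveILetI false
set_option backward.isDefEq.respectTransparency false
universe u

open CategoryTheory CategoryTheory.Limits AlgebraicGeometry TopologicalSpace Opposite

noncomputable section

namespace Groth.Agent.Hilb85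

open QC70

variable {X Z : Scheme.{u}} (i : Z ⟶ X) [IsClosedImmersion i]

/-- A local morphism out of the conormal sheaf, on the ideal sheaf. -/
def pushHom {P : X.Opens} (φ : HomOn (Omega.conormal i) (Coh.structureModule Z) (i ⁻¹ᵁ P)) :
    HomOn (ClSub.idealMod i.ker) (pushO i) P where
  app W hW :=
    { toFun := fun s => φ.app (i ⁻¹ᵁ W) (i.preimage_mono hW) (OmegaSh.pullSect i (ClSub.idealMod i.ker) W s)
      map_add' := fun s t => by
        rw [map_add, map_add]
      map_smul' := fun r s => by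
        rw [OmegaSh.pullSect_smul, map_smul]
        rfl }
  app_res {W W'} hW h s := by
    show φ.app (i ⁻¹ᵁ W') _ (OmegaSh.pullSect i (ClSub.idealMod i.ker) W' _) = _
    refine Eq.trans ?_ (φ.app_res (i.preimage_mono hW) (i.preimage_mono h) _)
    exact congrArg _ (OmegaSh.pullSect_map i (ClSub.idealMod i.ker) h s)

/-- A local morphism out of the conormal sheaf as a family. -/
def pullFam (P : X.Opens) :
    HomOn (Omega.conormal i) (Coh.structureModule Z) (i ⁻¹ᵁ P) →+ HomFam i.ker P :=
  AddMonoidHom.mk' (fun φ => homFamEquiv i rfl P (pushHom i φ)) fun φ ψ => by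
    rw [← map_add]
    rfl

theorem quotElt_pullFam {P : X.Opens} (φ : HomOn (Omega.conormal i) (Coh.structureModule Z) (i ⁻¹ᵁ P))
    (U : X.affineOpens) (hU : U.1 ≤ P) (s : Γ(ClSub.idealMod i.ker, U.1)) :
    quotElt i rfl U ((pullFam i P φ).map U hU (idealElt i.ker U s)) =
      φ.app (i ⁻¹ᵁ U.1) (i.preimage_mono hU) (OmegaSh.pullSect i (ClSub.idealMod i.ker) U.1 s) :=
  HomFam.ofHomOn_map i rfl _ U hU s

theorem pullFam_mono {P Q : X.Opens} (h : Q ≤ P)
    (φ : HomOn (Omega.conormal i) (Coh.structureModule Z) (i ⁻¹ᵁ P)) :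
    pullFam i Q (φ.mono (i.preimage_mono h)) = (pullFam i P φ).mono h := by
  refine HomFam.ext (funext fun U => funext fun hU => LinearMap.ext fun y => ?_)
  obtain ⟨s, rfl⟩ := (idealElt_bijective U).surjective y
  refine (quotElt_bijective i rfl U).injective ?_
  rw [quotElt_pullFam]
  exact (quotElt_pullFam i φ U (hU.trans h) s).symm

variable [IsLocallyNoetherian X]

theorem isQuasicoherent_idealMod_ker : (ClSub.idealMod i.ker).IsQuasicoherent :=
  (Crv77.isCoh_idealMod i.ker).1

theorem isQuasicoherent_conormal : (Omega.conormal i).IsQuasicoherent :=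
  haveI := isQuasicoherent_idealMod_ker i
  QCPull72.isQuasicoherent_pullback _ _

theorem pullFam_injective (P : X.Opens) : Function.Injective (pullFam i P) := by
  haveI := isQuasicoherent_idealMod_ker i
  haveI := isQuasicoherent_conormal i
  rw [injective_iff_map_eq_zero]
  intro φ hφ
  have hzero : ∀ (U : X.affineOpens) (hU : U.1 ≤ P), φ.app (i ⁻¹ᵁ U.1) (i.preimage_mono hU) = 0 := by
    intro U hU
    refine LinearMap.ext_on_range (SchBasics.span_pullSect i (ClSub.idealMod i.ker)
      (U.2.preimage i) U.2 le_rfl) fun s => ?_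
    rw [res_self]
    show φ.app _ _ (OmegaSh.pullSect i _ U.1 s) = 0
    rw [← quotElt_pullFam i φ U hU, hφ]
    show quotSect i rfl U 0 = 0
    exact map_zero _
  refine HomOn.ext' fun W hW s => section_ext' (Coh.structureModule Z) (fun U : AffIn P => W ⊓ i ⁻¹ᵁ U.1.1)
    (fun _ => inf_le_left) ?_ _ _ fun U => ?_
  · intro q hq
    obtain ⟨U, hU⟩ := Opens.mem_iSup.1 (le_iSup_affIn P (hW hq))
    exact Opens.mem_iSup.2 ⟨U, hq, hU⟩
  · rw [← φ.app_res hW inf_le_left, HomOn.zero_app, LinearMap.zero_apply, res_zero]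
    have h : φ.mono (i.preimage_mono U.2) = 0 := by
      apply (homSecEquiv (M := Omega.conormal i) (N := Coh.structureModule Z) (U.1.2.preimage i)).injective
      exact (hzero U.1 U.2).trans (map_zero _).symm
    exact LinearMap.congr_fun (congrFun (congrFun (congrArg HomOn.app h) (W ⊓ i ⁻¹ᵁ U.1.1)) inf_le_right)
      (QC70.res (Omega.conormal i) inf_le_left s)

theorem pullFam_surjective (P : X.Opens) : Function.Surjective (pullFam i P) := by
  haveI := isQuasicoherent_idealMod_ker i
  haveI := isQuasicoherent_conormal i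
  intro a
  have key : ∀ U : AffIn P, ∃ φ : HomOn (Omega.conormal i) (Coh.structureModule Z) (i ⁻¹ᵁ U.1.1),
      pullFam i U.1.1 φ = a.mono U.2 := by
    intro U
    let g : Γ(ClSub.idealMod i.ker, U.1.1) →+ Γ(Coh.structureModule Z, i ⁻¹ᵁ U.1.1) :=
      AddMonoidHom.mk' (fun s => quotElt i rfl U.1 (a.map U.1 U.2 (idealElt i.ker U.1 s))) fun s t => by
        rw [idealElt_add, map_add, quotElt_add]
    obtain ⟨l, hl⟩ := SchBasics.exists_linear_pullSect i (ClSub.idealMod i.ker) (Coh.structureModule Z)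
      (U.1.2.preimage i) U.1.2 le_rfl g fun r m => by
        show quotElt i rfl U.1 _ = _
        rw [idealElt_smul, map_smul, quotElt_smul, ← Scheme.Hom.app_eq_appLE]
        rfl
    refine ⟨HomOn.ofLinear (U.1.2.preimage i) l, HomFam.ext_top (LinearMap.ext fun y => ?_)⟩
    obtain ⟨s, rfl⟩ := (idealElt_bijective U.1).surjective y
    refine (quotElt_bijective i rfl U.1).injective ?_
    rw [quotElt_pullFam, HomOn.ofLinear_app_self]
    have h := hl s
    rw [res_self] at h
    exact h
  choose φ hφ using key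
  have hcomp : HomOn.Compatible φ := fun U U' V hV hV' s => by
    have hq : V ≤ i ⁻¹ᵁ (U.1.1 ⊓ U'.1.1) := le_inf hV hV'
    have h : (φ U).mono (i.preimage_mono (inf_le_left : U.1.1 ⊓ U'.1.1 ≤ _)) =
        (φ U').mono (i.preimage_mono inf_le_right) := by
      apply pullFam_injective i
      rw [pullFam_mono i (inf_le_left : U.1.1 ⊓ U'.1.1 ≤ _), pullFam_mono i (inf_le_right : U.1.1 ⊓ U'.1.1 ≤ _), hφ, hφ]
      rfl
    exact LinearMap.congr_fun (congrFun (congrFun (congrArg HomOn.app h) V) hq) s
  have hcov : i ⁻¹ᵁ P ≤ ⨆ U : AffIn P, i ⁻¹ᵁ U.1.1 := fun q hq => by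
    obtain ⟨U, hU⟩ := Opens.mem_iSup.1 (le_iSup_affIn P hq)
    exact Opens.mem_iSup.2 ⟨U, hU⟩
  refine ⟨HomOn.glue hcomp hcov, HomFam.ext (funext fun U => funext fun hU => LinearMap.ext fun y => ?_)⟩
  obtain ⟨s, rfl⟩ := (idealElt_bijective U).surjective y
  refine (quotElt_bijective i rfl U).injective ?_
  rw [quotElt_pullFam, HomOn.glue_app hcomp hcov _ ⟨U, hU⟩ le_rfl, ← quotElt_pullFam i (φ ⟨U, hU⟩) U le_rfl, hφ]
  rfl

/-- Local morphisms out of the conormal sheaf are the families. -/
def pullFamEquiv (P : X.Opens) :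
    HomOn (Omega.conormal i) (Coh.structureModule Z) (i ⁻¹ᵁ P) ≃+ HomFam i.ker P :=
  AddEquiv.ofBijective (pullFam i P) ⟨pullFam_injective i P, pullFam_surjective i P⟩

end Groth.Agent.Hilb85
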